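import Cfsg.Agent.Lib.ThreeDegrees.Main
import Cfsg.Agent.Lib.PCore.UpperSeries

/-!
# `|cd G| ≤ 3` implies `G''' = 1`
-/

set_option autoImplicit false
set_option linter.unusedSectionVars false
set_option linter.style.haveILetI false

namespace Cfsg.Agent.ThreeDegrees

open Cfsg.Agent Cfsg.Agent.Char
open scoped commutatorElement

universe u

variable {G : Type u} [Group G] [Fintype G]

theorem degree_inflate (K : Subgroup G) [K.Normal] (ψ : IrrCharacter (G ⧸ K)) :
    degree (inflate K ψ) = degree ψ :=
  degree_eq_of_apply_one (by rw [inflate_apply, QuotientGroup.mk_one, apply_one_eq_degree])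

theorem degree_dvd_card (χ : IrrCharacter G) : degree χ ∣ Nat.card G := by
  rw [← charDegree_eq_degree]; exact charDegree_dvd_card χ

/-- Linear characters detect the derived subgroup. -/
theorem mem_commutator_map (N : Subgroup G) [N.Normal] [Fintype N] {D : Subgroup G} (hD : D ≤ N)
    (h : ∀ θ : IrrCharacter N, degree θ = 1 → ∀ x : N, (x : G) ∈ D → θ.1 x = 1) :
    D ≤ ⁅N, N⁆ := by
  intro x hx
  have h1 : Abelianization.of (⟨x, hD hx⟩ : N) = 1 := by
    refine eq_one_of_forall_hom (H := Abelianization N) (fun a b => mul_comm a b)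
      fun v => Units.ext ?_
    let l : N →* ℂ := ((Units.coeHom ℂ).comp v).comp Abelianization.of
    exact h (linIrr l) (degree_eq_of_apply_one
      (by show l 1 = _; rw [map_one, Nat.cast_one])) ⟨x, hD hx⟩ hx
  rw [← Subgroup.map_subtype_commutator]
  exact ⟨⟨x, hD hx⟩, (QuotientGroup.eq_one_iff _).1 h1, rfl⟩

/-- `G'' ≤ N` for a normal subgroup with two-degree quotient. -/
theorem commutator_sq_le (N : Subgroup G) [N.Normal] {m : ℕ}
    (h : ∀ ψ : IrrCharacter (G ⧸ N), degree ψ = 1 ∨ degree ψ = m) :
    ⁅commutator G, commutator G⁆ ≤ N := by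
  have h1 := derived_two_of_two h
  have hmap : (commutator G).map (QuotientGroup.mk' N) = commutator (G ⧸ N) := by
    rw [commutator_def, commutator_def, Subgroup.map_commutator,
      Subgroup.map_top_of_surjective _ (QuotientGroup.mk'_surjective N)]
  intro x hx
  have h2 : (QuotientGroup.mk' N) x ∈ ⁅commutator (G ⧸ N), commutator (G ⧸ N)⁆ := by
    rw [← hmap, ← Subgroup.map_commutator]; exact Subgroup.mem_map_of_mem _ hx
  rw [h1, Subgroup.mem_bot] at h2
  exact (QuotientGroup.eq_one_iff x).1 h2

/-- `G' ≤ N` for a normal subgroup with linear quotient. -/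
theorem commutator_le_of_linear (N : Subgroup G) [N.Normal]
    (h : ∀ ψ : IrrCharacter (G ⧸ N), degree ψ = 1) : commutator G ≤ N := by
  rw [commutator_def, Subgroup.commutator_le]
  intro a _ b _
  rw [← QuotientGroup.eq_one_iff]
  show QuotientGroup.mk' N ⁅a, b⁆ = 1
  rw [map_commutatorElement, commutatorElement_eq_one_iff_mul_comm]
  exact comm_of_linear h _ _

/-- A prime divides all the nonlinear degrees, `m` is a power of it and `n` is not. -/
theorem mixed_case {p : ℕ} [hp : Fact p.Prime] (N : Subgroup G) [N.Normal] [Fintype N]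
    (hNp : ¬ p ∣ Nat.card N) (hNq : IsPGroup p (G ⧸ N)) {m n k : ℕ} (hm : m = p ^ k)
    (hcd : DegreesIn G m n) (hn : ∀ j, n ≠ p ^ j) :
    derivedSeries G 3 = ⊥ := by
  obtain ⟨e, he⟩ := IsPGroup.iff_card.1 hNq
  -- degrees over `N`
  have hover : ∀ (χ : IrrCharacter G) (θ : IrrCharacter N),
      classInner (resFun N χ.1) θ.1 ≠ 0 → ∃ j, degree χ = degree θ * p ^ j := fun χ θ h => by
    obtain ⟨hd, hi⟩ := constituent_dvd N χ θ h
    rw [Subgroup.index_eq_card, he] at hi
    obtain ⟨j, -, hj⟩ := (Nat.dvd_prime_pow hp.out).1 hi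
    exact ⟨j, by rw [← hj, Nat.mul_div_cancel' hd]⟩
  have hθp : ∀ θ : IrrCharacter N, ¬ p ∣ degree θ := fun θ h =>
    hNp (h.trans (degree_dvd_card θ))
  -- quotient degrees
  have hQ : ∀ ψ : IrrCharacter (G ⧸ N), degree ψ = 1 ∨ degree ψ = m := fun ψ => by
    haveI := Fintype.ofFinite (G ⧸ N)
    obtain ⟨j, -, hj⟩ := (Nat.dvd_prime_pow hp.out).1 (he ▸ degree_dvd_card ψ)
    rcases hcd (inflate N ψ) with h | h | h <;> rw [degree_inflate] at h
    · exact Or.inl h
    · exact Or.inr h
    · exact absurd (h.symm.trans hj) (hn j)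
  have hD2N : ⁅commutator G, commutator G⁆ ≤ N := commutator_sq_le N hQ
  -- characters of degree `m` kill `G''`
  have hker : ∀ χ : IrrCharacter G, (∃ j, degree χ = p ^ j) →
      TrivOn ⁅commutator G, commutator G⁆ χ.1 := by
    rintro χ ⟨j, hj⟩
    rcases eq_or_ne (degree χ) 1 with h1 | h1
    · exact fun x hx => trivOn_commutator_of_degree h1 x
        (Subgroup.commutator_mono le_top le_top hx)
    have hχm : degree χ = m := ((hcd χ).resolve_left h1).resolve_right fun h => hn j (h.symm.trans hj)
    obtain ⟨θ, hθ⟩ := exists_constituent N χ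
    have hθ1 : degree θ = 1 := by
      obtain ⟨i, hi⟩ := hover χ θ hθ
      refine Nat.eq_one_of_dvd_coprimes (((hp.out.coprime_iff_not_dvd).2 (hθp θ)).pow_left j)
        (hj ▸ hi ▸ Dvd.intro _ rfl) dvd_rfl
    obtain ⟨H, μ, hNH, hH⟩ := exists_monomial_over N hNq χ θ hθ1 hθ
    refine trivOn_commutator_of_monomial N (commutator G) χ h1 H μ hNH hH fun η hηN hη => ?_
    refine trivOn_commutator_of_degree ?_
    obtain ⟨ψ, hψ⟩ := exists_descend N η hηN
    haveI := Fintype.ofFinite (G ⧸ N)
    have hd : degree ψ = degree η := degree_eq_of_apply_one (by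
      rw [← apply_one_eq_degree, ← hψ 1, QuotientGroup.mk_one])
    rcases hQ ψ with h | h <;> rw [hd] at h
    · exact h
    · omega
  -- `G'' ≤ N'`
  have hle : ⁅commutator G, commutator G⁆ ≤ ⁅N, N⁆ := by
    refine mem_commutator_map N hD2N fun θ hθ x hx => ?_
    obtain ⟨χ, hχ⟩ := exists_over N θ
    obtain ⟨i, hi⟩ := hover χ θ hχ
    rw [hθ, one_mul] at hi
    have hx1 := hker χ ⟨i, hi⟩ x hx
    obtain ⟨c, hc, hc'⟩ := IsCharacter.exists_decomp (IsCharacter.restrict (irr_isCharacter χ) N)
    have hval : ∀ y : N, χ.1 y = ∑ η ∈ Finset.univ.filter (fun η => c η ≠ 0), (c η : ℂ) * η.1 y := by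
      intro y
      rw [Finset.sum_filter]
      refine (congrFun hc y).trans ?_
      simp only [Finset.sum_apply, Pi.smul_apply, smul_eq_mul]
      exact Finset.sum_congr rfl fun η _ => by split_ifs with h <;> simp_all
    have hcθ : c θ ≠ 0 := fun h0 => hχ (by
      show classInner (fun y : N => χ.1 y) θ.1 = 0
      rw [hc' θ, h0, Nat.cast_zero])
    have h2 := eq_of_sum_eq (Finset.univ.filter fun η => c η ≠ 0) (fun η => (c η : ℂ) • η.1)
      (fun η _ => IsCharacter.natCast_smul (irr_isCharacter η) _) (g := x)
      (by simp only [Pi.smul_apply, smul_eq_mul, ← hval]; rw [hx1, Subgroup.coe_one]) θ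
      (Finset.mem_filter.2 ⟨Finset.mem_univ _, hcθ⟩)
    simpa [Nat.cast_ne_zero.2 hcθ, apply_one_eq_degree, hθ] using h2
  -- `N` has two degrees
  have hN : ∀ θ : IrrCharacter N, degree θ = 1 ∨ degree θ = n / p ^ n.factorization p := fun θ => by
    obtain ⟨χ, hχ⟩ := exists_over N θ
    obtain ⟨i, hi⟩ := hover χ θ hχ
    have hval : ∀ j, degree χ = p ^ j → degree θ = 1 := fun j hj =>
      Nat.eq_one_of_dvd_coprimes (((hp.out.coprime_iff_not_dvd).2 (hθp θ)).pow_left j)
        (hj ▸ hi ▸ Dvd.intro _ rfl) dvd_rfl
    rcases hcd χ with h | h | h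
    · exact Or.inl (hval 0 (by simpa using h))
    · exact Or.inl (hval k (h.trans hm))
    · right
      rw [← h, hi, Nat.ordCompl_mul,
        Nat.factorization_eq_zero_of_not_dvd (hθp θ), pow_zero, Nat.div_one]
      rw [Nat.ordCompl_self_pow hp.out, mul_one]
  rw [derivedSeries_three, eq_bot_iff]
  refine le_trans (Subgroup.commutator_mono hle hle) ?_
  rw [← map_subtype_commutator_sq, derived_two_of_two hN, Subgroup.map_bot]

/-- The induction. -/
theorem main : ∀ (c : ℕ) (G : Type u) [Group G] [Fintype G], Nat.card G = c →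
    ∀ m n : ℕ, DegreesIn G m n → derivedSeries G 3 = ⊥ := by
  intro c
  induction c using Nat.strong_induction_on with
  | _ c ih =>
    intro G _ _ hc m n hcd
    classical
    -- two degrees
    by_cases h2 : ∃ k, ∀ χ : IrrCharacter G, degree χ = 1 ∨ degree χ = k
    · obtain ⟨k, hk⟩ := h2
      rw [derivedSeries_three, derived_two_of_two hk]
      exact Subgroup.commutator_bot_left _
    push Not at h2
    obtain ⟨χm, hχm1, hχm⟩ := h2 n
    have hχm : degree χm = m := ((hcd χm).resolve_left hχm1).resolve_right hχm
    obtain ⟨χn, hχn1, hχn⟩ := h2 m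
    have hχn : degree χn = n := ((hcd χn).resolve_left hχn1).resolve_left hχn
    have hm : 1 < m := by have := degree_pos χm; omega
    have hn : 1 < n := by have := degree_pos χn; omega
    have hmn : m ≠ n := by
      obtain ⟨χ, h1, h⟩ := h2 m
      intro e
      rcases hcd χ with h' | h' | h' <;> omega
    by_cases hcop : m.Coprime n
    swap
    · -- a common prime divisor
      obtain ⟨p, hp, hpm, hpn⟩ := Nat.Prime.not_coprime_iff_dvd.1 hcop
      haveI := Fact.mk hp
      set N := Cfsg.pResidual p G with hNdef
      haveI : N.Normal := Transfer.pResidual_normal p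
      haveI := Fintype.ofFinite N
      have hNp : ¬ p ∣ Nat.card N := not_dvd_card_pResidual_of_dvd_degree p hp fun χ hχ => by
        rcases hcd χ with h | h | h
        · exact absurd h hχ
        · exact h ▸ hpm
        · exact h ▸ hpn
      have hNq : IsPGroup p (G ⧸ N) := Transfer.isPGroup_quotient_pResidual p
      obtain ⟨e, he⟩ := IsPGroup.iff_card.1 hNq
      by_cases hmp : ∃ k, m = p ^ k
      · obtain ⟨k, hk⟩ := hmp
        by_cases hnp : ∃ j, n = p ^ j
        swap
        · push Not at hnp
          exact mixed_case N hNp hNq hk hcd hnp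
        -- all degrees are powers of `p`
        obtain ⟨j, hj⟩ := hnp
        have hall : ∀ χ : IrrCharacter G, ∃ i, degree χ = p ^ i := fun χ => by
          rcases hcd χ with h | h | h
          · exact ⟨0, by rw [h, pow_zero]⟩
          · exact ⟨k, h.trans hk⟩
          · exact ⟨j, h.trans hj⟩
        have hlin : ∀ (χ : IrrCharacter G) (θ : IrrCharacter N),
            classInner (resFun N χ.1) θ.1 ≠ 0 → degree θ = 1 := fun χ θ h => by
          obtain ⟨i, hi⟩ := hall χ
          exact Nat.eq_one_of_dvd_coprimes (((hp.coprime_iff_not_dvd).2 hNp).pow_left i)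
            (hi ▸ (constituent_dvd N χ θ h).1) (degree_dvd_card θ)
        have hmono : ∀ (χ : IrrCharacter G) (D : Subgroup G) [D.Normal], degree χ ≠ 1 →
            (∀ η : IrrCharacter G, degree η < degree χ → TrivOn D η.1) →
            TrivOn ⁅D, D⁆ χ.1 := by
          intro χ D _ h1 hD
          obtain ⟨θ, hθ⟩ := exists_constituent N χ
          obtain ⟨H, μ, hNH, hH⟩ := exists_monomial_over N hNq χ θ (hlin χ θ hθ) hθ
          exact trivOn_commutator_of_monomial N D χ h1 H μ hNH hH fun η _ hη => hD η hη
        have hD3 : ∀ χ : IrrCharacter G, TrivOn (derivedSeries G 3) χ.1 := by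
          have hsmall : ∀ χ : IrrCharacter G, degree χ ≤ min m n →
              TrivOn ⁅commutator G, commutator G⁆ χ.1 := by
            intro χ hχ
            rcases eq_or_ne (degree χ) 1 with h1 | h1
            · exact fun x hx => trivOn_commutator_of_degree h1 x
                (Subgroup.commutator_mono le_top le_top hx)
            refine hmono χ (commutator G) h1 fun η hη => trivOn_commutator_of_degree ?_
            rcases hcd η with h | h | h
            · exact h
            all_goals omega
          intro χ x hx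
          rw [derivedSeries_three] at hx
          by_cases hχ : degree χ ≤ min m n
          · exact hsmall χ hχ x (Subgroup.commutator_mono (Subgroup.commutator_mono le_top le_top)
              (Subgroup.commutator_mono le_top le_top) hx)
          refine hmono χ ⁅commutator G, commutator G⁆ (by omega) (fun η hη => hsmall η ?_) x hx
          rcases hcd η with h | h | h <;> rcases hcd χ with h' | h' | h' <;> omega
        rw [eq_bot_iff]
        intro x hx
        rw [Subgroup.mem_bot]
        by_contra hx1
        have := sum_irr_degree_mul x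
        rw [if_neg hx1, Finset.sum_congr rfl fun χ _ => by rw [hD3 χ x hx, ← sq],
          sum_irr_degree_sq] at this
        exact (Nat.cast_ne_zero.2 Nat.card_pos.ne') this
      · by_cases hnp : ∃ j, n = p ^ j
        · obtain ⟨j, hj⟩ := hnp
          push Not at hmp
          exact mixed_case N hNp hNq hj (fun χ => (hcd χ).imp id Or.symm) hmp
        -- neither degree is a power of `p`
        push Not at hmp hnp
        have hp1 : ∀ χ : IrrCharacter G, (∃ i, degree χ = p ^ i) → degree χ = 1 := by
          rintro χ ⟨i, hi⟩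
          rcases hcd χ with h | h | h
          · exact h
          · exact absurd (h.symm.trans hi) (hmp i)
          · exact absurd (h.symm.trans hi) (hnp i)
        have hGN : commutator G ≤ N := commutator_le_of_linear N fun ψ => by
          haveI := Fintype.ofFinite (G ⧸ N)
          obtain ⟨i, -, hi⟩ := (Nat.dvd_prime_pow hp).1 (he ▸ degree_dvd_card ψ)
          exact (degree_inflate N ψ).symm.trans (hp1 _ ⟨i, (degree_inflate N ψ).trans hi⟩)
        have hG' : commutator G ≤ ⁅N, N⁆ := by
          refine mem_commutator_map N hGN fun θ hθ x hx => ?_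
          obtain ⟨χ, hχ⟩ := exists_over N θ
          obtain ⟨hd, hi⟩ := constituent_dvd N χ θ hχ
          rw [hθ, Nat.div_one, Subgroup.index_eq_card, he] at hi
          obtain ⟨i, -, hi'⟩ := (Nat.dvd_prime_pow hp).1 hi
          have h1 := hp1 χ ⟨i, hi'⟩
          have h3 := congrFun (resFun_eq_of_degree_eq N χ θ hχ (hθ.trans h1.symm)) x
          rw [← h3, resFun_apply, trivOn_commutator_of_degree h1 x hx, apply_one_eq_degree, h1,
            Nat.cast_one]
        have hlt : Nat.card N < c := by
          rw [← hc, ← N.card_mul_index]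
          refine lt_mul_of_one_lt_right Nat.card_pos ?_
          rw [Subgroup.index_eq_card, he]
          refine Nat.one_lt_pow (fun e0 => ?_) hp.one_lt
          -- `p` divides `|G|`
          have h1 : p ∣ Nat.card G := (hχm ▸ hpm).trans (degree_dvd_card χm)
          rw [← N.card_mul_index, Subgroup.index_eq_card, he, e0, pow_zero, mul_one] at h1
          exact hNp h1
        -- the degrees of `N`
        have hN : DegreesIn N (m / p ^ m.factorization p) (n / p ^ n.factorization p) := fun θ => by
          obtain ⟨χ, hχ⟩ := exists_over N θ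
          obtain ⟨hd, hi⟩ := constituent_dvd N χ θ hχ
          rw [Subgroup.index_eq_card, he] at hi
          obtain ⟨i, -, hi'⟩ := (Nat.dvd_prime_pow hp).1 hi
          have h1 : degree χ / p ^ (degree χ).factorization p = degree θ := by
            have h2 : degree χ = degree θ * p ^ i := by rw [← hi', Nat.mul_div_cancel' hd]
            rw [h2, Nat.ordCompl_mul, Nat.factorization_eq_zero_of_not_dvd
              (fun h => hNp (h.trans (degree_dvd_card θ))), pow_zero, Nat.div_one,
              Nat.ordCompl_self_pow hp, mul_one]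
          rcases hcd χ with h | h | h <;> rw [h] at h1
          · left; simpa using h1.symm
          · exact Or.inr (Or.inl h1.symm)
          · exact Or.inr (Or.inr h1.symm)
        have hN3 := ih _ hlt N rfl _ _ hN
        rw [derivedSeries_three] at hN3 ⊢
        rw [eq_bot_iff]
        have hG'' : commutator G ≤ (commutator N).map N.subtype := by
          rw [Subgroup.map_subtype_commutator]; exact hG'
        refine le_trans (Subgroup.commutator_mono (Subgroup.commutator_mono hG'' hG'')
          (Subgroup.commutator_mono hG'' hG'')) ?_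
        rw [← Subgroup.map_commutator, ← Subgroup.map_commutator, hN3, Subgroup.map_bot]
    -- coprime degrees
    by_contra hG3
    have hq : ∀ E : Subgroup G, E.Normal → E ≠ ⊥ → derivedSeries G 3 ≤ E := by
      intro E _ hE
      haveI := Fintype.ofFinite (G ⧸ E)
      have h1 : Nat.card (G ⧸ E) < c := by
        rw [← Subgroup.index_eq_card, ← hc, ← E.card_mul_index]
        exact lt_mul_of_one_lt_left (Nat.pos_of_ne_zero Subgroup.index_ne_zero_of_finite)
          (Subgroup.one_lt_card_iff_ne_bot _ |>.2 hE)
      have h2 := ih _ h1 (G ⧸ E) rfl m n fun ψ => by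
        rw [← degree_inflate E ψ]; exact hcd _
      rw [← map_derivedSeries_eq (QuotientGroup.mk'_surjective E), Subgroup.map_eq_bot_iff,
        QuotientGroup.ker_mk'] at h2
      exact h2
    by_cases hperf : ⁅commutator G, commutator G⁆ = commutator G
    · have hD : derivedSeries G 3 = commutator G := by rw [derivedSeries_three, hperf, hperf]
      have hmin : ∀ E : Subgroup G, E.Normal → E ≤ commutator G → E = ⊥ ∨ E = commutator G :=
        fun E hE hEle => (em (E = ⊥)).imp id fun h => le_antisymm hEle (hD ▸ hq E hE h)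
      rcases lt_or_gt_of_ne hmn with h | h
      · exact false_of_minimal_commutator hm h hcop hcd ⟨χm, hχm⟩ ⟨χn, hχn⟩ hmin
      · exact false_of_minimal_commutator hn h hcop.symm (fun χ => (hcd χ).imp id Or.symm)
          ⟨χn, hχn⟩ ⟨χm, hχm⟩ hmin
    -- a maximal non-abelian quotient
    haveI : Finite (Subgroup G) := Finite.of_injective (fun K : Subgroup G => (K : Set G))
      SetLike.coe_injective
    haveI := Fintype.ofFinite (Subgroup G)
    obtain ⟨N, hN₀⟩ := Finset.exists_maximal (s := Finset.univ.filter fun N : Subgroup G =>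
        N.Normal ∧ ⁅commutator G, commutator G⁆ ≤ N ∧ ¬ commutator G ≤ N)
      ⟨⁅commutator G, commutator G⁆, Finset.mem_filter.2 ⟨Finset.mem_univ _, inferInstance, le_rfl,
        fun h => hperf (le_antisymm (Subgroup.commutator_le_left _ _) h)⟩⟩
    have hNmax : Maximal (fun N : Subgroup G =>
        N.Normal ∧ ⁅commutator G, commutator G⁆ ≤ N ∧ ¬ commutator G ≤ N) N :=
      ⟨(Finset.mem_filter.1 hN₀.prop).2,
        fun M hM hle => hN₀.2 (Finset.mem_filter.2 ⟨Finset.mem_univ _, hM⟩) hle⟩
    obtain ⟨hNn, hN2, hN1⟩ := hNmax.prop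
    haveI := hNn
    haveI := Fintype.ofFinite N
    set π := QuotientGroup.mk' N with hπ
    have hπs : Function.Surjective π := QuotientGroup.mk'_surjective N
    have hπD : (commutator G).map π = commutator (G ⧸ N) := by
      rw [commutator_def, commutator_def, Subgroup.map_commutator,
        Subgroup.map_top_of_surjective _ hπs]
    have hst := structure_of_minimal (Q := G ⧸ N)
      (by rw [← hπD, Ne, Subgroup.map_eq_bot_iff, hπ, QuotientGroup.ker_mk']; exact hN1)
      (by rw [← hπD, ← Subgroup.map_commutator, Subgroup.map_eq_bot_iff, hπ,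
        QuotientGroup.ker_mk']; exact hN2)
      (fun M hM hMne => by
        haveI := hM.comap π
        have hle : N ≤ M.comap π := fun x hx => by
          rw [Subgroup.mem_comap, hπ, QuotientGroup.mk'_apply, (QuotientGroup.eq_one_iff x).2 hx]
          exact M.one_mem
        rw [← hπD, Subgroup.map_le_iff_le_comap]
        by_contra hcon
        have heq := hNmax.eq_of_ge ⟨inferInstance, hN2.trans hle, hcon⟩ hle
        refine hMne ?_
        rw [← Subgroup.map_comap_eq_self_of_surjective hπs M]
        rw [Subgroup.map_eq_bot_iff, hπ, QuotientGroup.ker_mk']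
        exact heq.le)
    rcases hst with ⟨p, hp, hQp⟩ | ⟨hfpf, hcoQ⟩
    · -- a `p`-group quotient: Gallagher
      haveI := Fact.mk hp
      haveI := Fintype.ofFinite (G ⧸ N)
      obtain ⟨e, he⟩ := IsPGroup.iff_card.1 hQp
      obtain ⟨β, hβ⟩ : ∃ β : IrrCharacter (G ⧸ N), degree β ≠ 1 := by
        by_contra! h
        exact hN1 (commutator_le_of_linear N h)
      obtain ⟨i, -, hi⟩ := (Nat.dvd_prime_pow hp).1 (he ▸ degree_dvd_card β)
      have hpb : p ∣ degree β := by
        rw [hi]; exact dvd_pow_self p fun h0 => hβ (by rw [hi, h0, pow_zero])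
      -- the degree prime to `p`
      have key : ∀ w o : ℕ, 1 < o → o.Coprime w → DegreesIn G w o →
          (∃ χ : IrrCharacter G, degree χ = o) → degree β = w → False := by
        intro w o ho hwo hcd' ⟨χ, hχ⟩ hβw
        have hco : (degree χ).Coprime N.index := by
          rw [hχ, Subgroup.index_eq_card, he]
          exact ((hp.coprime_iff_not_dvd.2 fun h => hp.one_lt.ne'
            (Nat.eq_one_of_dvd_coprimes hwo h (hβw ▸ hpb))).pow_left e).symm
        let χβ : IrrCharacter G :=
          ⟨_, isIrrCharacter_mulQuotient N χ (isIrr_resFun_of_coprime N χ hco) β⟩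
        have hd : degree χβ = o * w := degree_eq_of_apply_one (by
          show χ.1 1 * β.1 ((1 : G) : G ⧸ N) = _
          rw [QuotientGroup.mk_one, apply_one_eq_degree, apply_one_eq_degree, hχ, hβw, Nat.cast_mul])
        have hw : 1 < w := by have := degree_pos β; omega
        have h1 : w < o * w := lt_mul_of_one_lt_left (by omega) ho
        have h2 : o < o * w := lt_mul_of_one_lt_right (by omega) hw
        rcases hcd' χβ with h | h | h <;> omega
      rcases hcd (inflate N β) with h | h | h <;> rw [degree_inflate] at h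
      · exact hβ h
      · exact key m n hn hcop.symm hcd ⟨χn, hχn⟩ h
      · exact key n m hm hcop (fun χ => (hcd χ).imp id Or.symm) ⟨χm, hχm⟩ h
    -- a Frobenius quotient
    set K := (commutator (G ⧸ N)).comap π with hK
    haveI := Fintype.ofFinite K
    haveI := Fintype.ofFinite (N.subgroupOf K)
    have hNK : N ≤ K := fun x hx => by
      rw [hK, Subgroup.mem_comap, hπ, QuotientGroup.mk'_apply, (QuotientGroup.eq_one_iff x).2 hx]
      exact one_mem _
    have hGK : commutator G ≤ K := by
      rw [hK, ← Subgroup.map_le_iff_le_comap, hπD]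
    have hmemN : ∀ x : G, π x = 1 → x ∈ N := fun x h => (QuotientGroup.eq_one_iff x).1 h
    have hKab : ∀ a ∈ K, ∀ b ∈ K, ⁅a, b⁆ ∈ N := fun a ha b hb => hmemN _ (by
      have h3 : π ⁅a, b⁆ ∈ ⁅commutator (G ⧸ N), commutator (G ⧸ N)⁆ := by
        rw [map_commutatorElement]; exact Subgroup.commutator_mem_commutator ha hb
      have h4 : ⁅commutator (G ⧸ N), commutator (G ⧸ N)⁆ = ⊥ := by
        rw [← hπD, ← Subgroup.map_commutator, Subgroup.map_eq_bot_iff, hπ,
          QuotientGroup.ker_mk']
        exact hN2
      rw [h4, Subgroup.mem_bot] at h3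
      exact h3)
    have hKfpf : ∀ g : G, g ∉ K → ∀ k ∈ K, ⁅g, k⁆ ∈ N → k ∈ N := fun g hg k hk h => by
      refine hmemN _ (hfpf (π g) hg (π k) hk ?_)
      rw [← commutatorElement_eq_one_iff_mul_comm, ← map_commutatorElement]
      exact (QuotientGroup.eq_one_iff _).2 h
    have hKN : ¬ K ≤ N := fun h => hN1 (hGK.trans h)
    have hindex : K.index = (commutator (G ⧸ N)).index :=
      Subgroup.index_comap_of_surjective _ hπs
    have hrel : (N.subgroupOf K).index = Nat.card (commutator (G ⧸ N)) := by
      show N.relIndex K = _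
      rw [PCore.relIndex_eq_card_map_mk', ← hπ, hK,
        Subgroup.map_comap_eq_self_of_surjective hπs]
    have hcoK : (N.subgroupOf K).index.Coprime K.index := by rw [hrel, hindex]; exact hcoQ
    have hf1 : K.index ≠ 1 := fun h => by
      have htop : commutator (G ⧸ N) = ⊤ := Subgroup.index_eq_one.1 (hindex ▸ h)
      refine hN1 ?_
      have h4 : ⁅commutator (G ⧸ N), commutator (G ⧸ N)⁆ = ⊥ := by
        rw [← hπD, ← Subgroup.map_commutator, Subgroup.map_eq_bot_iff, hπ,
          QuotientGroup.ker_mk']
        exact hN2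
      rw [htop, ← commutator_def, htop] at h4
      rw [← QuotientGroup.ker_mk' N, ← Subgroup.map_eq_bot_iff, ← hπ, hπD, htop, h4]
    have hf : K.index = m ∨ K.index = n := by
      have htriv : degree (trivialChar K) = 1 :=
        degree_eq_of_apply_one (by simp [trivialChar])
      obtain ⟨χ, hχ⟩ := exists_degree_index_mul K N hNK hKab hKfpf hKN (trivialChar K)
        (trivialChar (N.subgroupOf K)).2
      rw [htriv, mul_one] at hχ
      rcases hcd χ with h | h | h
      · exact absurd (hχ.symm.trans h) hf1
      · exact Or.inl (hχ.symm.trans h)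
      · exact Or.inr (hχ.symm.trans h)
    have key : ∀ w o : ℕ, 1 < o → o.Coprime w → K.index = w → DegreesIn G w o →
        derivedSeries G 3 = ⊥ := by
      intro w o ho hwo hw hcd'
      have hK2 : ∀ ψ : IrrCharacter K, degree ψ = 1 ∨ degree ψ = o := by
        intro ψ
        obtain ⟨χ, hχ⟩ := exists_over K ψ
        obtain ⟨hd, hi⟩ := constituent_dvd K χ ψ hχ
        rw [hw] at hi
        rcases hcd' χ with h | h | h
        · left; exact Nat.dvd_one.1 (h ▸ hd)
        · left
          rw [h] at hd
          by_contra hψ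
          have hco : (degree ψ).Coprime (N.subgroupOf K).index :=
            (hcoK.coprime_dvd_right (hw ▸ hd)).symm
          obtain ⟨χ', hχ'⟩ := exists_degree_index_mul K N hNK hKab hKfpf hKN ψ
            (isIrr_resFun_of_coprime (N.subgroupOf K) ψ hco)
          rw [hw] at hχ'
          have hw1 : 1 < w := by have := degree_pos χ; omega
          have hψ1 : 1 < degree ψ := by have := degree_pos ψ; omega
          have h5 : w < w * degree ψ := lt_mul_of_one_lt_right (by omega) hψ1
          rcases hcd' χ' with h' | h' | h'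
          · omega
          · omega
          · exact absurd (Nat.eq_one_of_dvd_coprimes hwo (h' ▸ hχ' ▸ Dvd.intro _ rfl) dvd_rfl)
              hw1.ne'
        · right
          rw [h] at hd hi
          have h1 : o / degree ψ = 1 :=
            Nat.eq_one_of_dvd_coprimes hwo (Nat.div_dvd_of_dvd hd) hi
          rw [← Nat.mul_div_cancel' hd, h1, mul_one]
      refine derivedSeries_three_eq_bot_of_le hGK ?_
      rw [← map_subtype_commutator_sq, derived_two_of_two hK2, Subgroup.map_bot]
    rcases hf with h | h
    · exact hG3 (key m n hn hcop.symm h hcd)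
    · exact hG3 (key n m hm hcop h fun χ => (hcd χ).imp id Or.symm)

end Cfsg.Agent.ThreeDegrees
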