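import Cfsg.Agent.Lib.ThreeDegrees.Monomial
import Cfsg.Agent.Lib.Char.Gallagher
import Cfsg.Agent.Lib.Char.ThompsonDegree
import Cfsg.Agent.Lib.Transfer.Residual
import Cfsg.Agent.Lib.Glauberman.Solvable
import Cfsg.Agent.S4458
import Cfsg.Agent.S0887

/-!
# Groups with at most three character degrees have trivial third derived subgroup
-/

set_option autoImplicit false
set_option linter.unusedSectionVars false
set_option linter.style.haveILetI false

namespace Cfsg.Agent.ThreeDegrees

open Cfsg.Agent Cfsg.Agent.Char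
open scoped commutatorElement

universe u

variable {G : Type u} [Group G]

/-- All degrees are among `1, m, n`. -/
def DegreesIn (G : Type u) [Group G] (m n : ℕ) : Prop :=
  ∀ χ : IrrCharacter G, degree χ = 1 ∨ degree χ = m ∨ degree χ = n

theorem comm_of_linear [Finite G] (h : ∀ χ : IrrCharacter G, degree χ = 1) (a b : G) :
    a * b = b * a := by
  haveI := Fintype.ofFinite G
  refine forall_apply_one_iff_comm.1 (fun χ => ?_) a b
  rw [apply_one_eq_degree, h χ, Nat.cast_one]

theorem commutator_eq_bot_of_linear [Finite G] (h : ∀ χ : IrrCharacter G, degree χ = 1) :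
    commutator G = ⊥ := by
  rw [commutator_def, Subgroup.commutator_eq_bot_iff_le_centralizer]
  exact fun a _ => Subgroup.mem_centralizer_iff.2 fun b _ => comm_of_linear h b a

/-- Two degrees: the derived subgroup is abelian. -/
theorem derived_two_of_two [Finite G] {m : ℕ}
    (h : ∀ χ : IrrCharacter G, degree χ = 1 ∨ degree χ = m) :
    ⁅commutator G, commutator G⁆ = ⊥ := by
  by_cases hex : ∃ χ : IrrCharacter G, degree χ = m ∧ m ≠ 1
  · obtain ⟨χ₀, hχ₀, hm⟩ := hex
    rw [Subgroup.commutator_eq_bot_iff_le_centralizer]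
    refine fun a ha => Subgroup.mem_centralizer_iff.2 fun b hb => ?_
    exact Cfsg.Agent.S4458.result (G := G) m (fun χ => by rw [charDegree_eq_degree]; exact h χ)
      ⟨χ₀, by rw [charDegree_eq_degree, hχ₀]⟩ hm b hb a ha
  · push Not at hex
    rw [commutator_eq_bot_of_linear fun χ => (h χ).elim id fun h' => h'.trans (hex χ h')]
    exact Subgroup.commutator_bot_left _

theorem derivedSeries_three :
    derivedSeries G 3 = ⁅⁅commutator G, commutator G⁆, ⁅commutator G, commutator G⁆⁆ := by
  simp only [derivedSeries_succ, derivedSeries_zero, commutator_def]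

/-- `G′ ≤ K` and `K′` abelian. -/
theorem derivedSeries_three_eq_bot_of_le {K : Subgroup G} (h : commutator G ≤ K)
    (hK : ⁅⁅K, K⁆, ⁅K, K⁆⁆ = ⊥) : derivedSeries G 3 = ⊥ := by
  rw [derivedSeries_three, eq_bot_iff, ← hK]
  exact Subgroup.commutator_mono (Subgroup.commutator_mono h h) (Subgroup.commutator_mono h h)

theorem map_subtype_commutator_sq (K : Subgroup G) :
    (⁅commutator K, commutator K⁆).map K.subtype = ⁅⁅K, K⁆, ⁅K, K⁆⁆ := by
  rw [Subgroup.map_commutator, Subgroup.map_subtype_commutator]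

variable [Fintype G]

/-- Degrees of constituents and the index. -/
theorem constituent_dvd (N : Subgroup G) [N.Normal] [Fintype N] (χ : IrrCharacter G)
    (θ : IrrCharacter N) (h : classInner (resFun N χ.1) θ.1 ≠ 0) :
    degree θ ∣ degree χ ∧ degree χ / degree θ ∣ N.index :=
  S0887.result N χ.1 χ.2 θ.1 θ.2 h (degree χ) (degree θ) (apply_one_eq_degree χ)
    (apply_one_eq_degree θ)

theorem exists_over (N : Subgroup G) [N.Normal] [Fintype N] (θ : IrrCharacter N) :
    ∃ χ : IrrCharacter G, classInner (resFun N χ.1) θ.1 ≠ 0 :=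
  Glauberman.exists_over N.subtype N.subtype_injective θ

/-- A character of degree equal to that of a constituent restricts to it. -/
theorem resFun_eq_of_degree_eq (N : Subgroup G) [N.Normal] [Fintype N] (χ : IrrCharacter G)
    (θ : IrrCharacter N) (h : classInner (resFun N χ.1) θ.1 ≠ 0) (hd : degree θ = degree χ) :
    resFun N χ.1 = θ.1 := by
  classical
  obtain ⟨c, hc, hc'⟩ := IsCharacter.exists_decomp (IsCharacter.restrict (irr_isCharacter χ) N)
  have hcθ : 0 < c θ := Nat.pos_of_ne_zero fun h0 => h (by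
    show classInner (fun x : N => χ.1 x) θ.1 = 0
    rw [hc' θ, h0, Nat.cast_zero])
  have hsum : ∑ η, c η * degree η = degree χ := by
    have := congrFun hc 1
    simp only [Subgroup.coe_one, Finset.sum_apply, Pi.smul_apply, smul_eq_mul,
      apply_one_eq_degree] at this
    exact_mod_cast this.symm
  rw [← Finset.add_sum_erase _ _ (Finset.mem_univ θ), hd] at hsum
  have hpos := degree_pos χ
  have h1 : c θ = 1 := by
    have : c θ * degree χ ≤ 1 * degree χ := by
      rw [one_mul]; exact le_of_le_of_eq (Nat.le_add_right _ _) hsum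
    have := Nat.le_of_mul_le_mul_right this hpos
    omega
  rw [h1, one_mul] at hsum
  have h0 : ∀ η ∈ Finset.univ.erase θ, c η = 0 := fun η hη =>
    (Nat.mul_eq_zero.1 (Finset.sum_eq_zero_iff.1 (Nat.add_eq_left.1 hsum) η hη)).resolve_right
      (degree_pos η).ne'
  show (fun x : N => χ.1 x) = θ.1
  rw [hc, ← Finset.add_sum_erase _ _ (Finset.mem_univ θ), h1, Nat.cast_one, one_smul,
    Finset.sum_eq_zero fun η hη => by rw [h0 η hη, Nat.cast_zero, zero_smul], add_zero]

/-- A character of degree prime to `[G : N]` is irreducible on `N`. -/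
theorem isIrr_resFun_of_coprime (N : Subgroup G) [N.Normal] [Fintype N] (χ : IrrCharacter G)
    (h : (degree χ).Coprime N.index) : IsIrrCharacter N (resFun N χ.1) := by
  obtain ⟨θ, hθ⟩ := exists_constituent N χ
  obtain ⟨hd, hi⟩ := constituent_dvd N χ θ hθ
  have h1 : degree χ / degree θ = 1 :=
    Nat.eq_one_of_dvd_coprimes h (Nat.div_dvd_of_dvd hd) hi
  rw [resFun_eq_of_degree_eq N χ θ hθ
    (by rw [← Nat.div_mul_cancel hd, h1, one_mul])]
  exact θ.2

/-- The quotient by a subgroup maximal with non-abelian quotient. -/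
theorem structure_of_minimal {Q : Type u} [Group Q] [Finite Q] (hne : commutator Q ≠ ⊥)
    (hab : ⁅commutator Q, commutator Q⁆ = ⊥)
    (hmin : ∀ M : Subgroup Q, M.Normal → M ≠ ⊥ → commutator Q ≤ M) :
    (∃ p : ℕ, p.Prime ∧ IsPGroup p Q) ∨
      ((∀ g : Q, g ∉ commutator Q → ∀ b ∈ commutator Q, g * b = b * g → b = 1) ∧
        (Nat.card (commutator Q)).Coprime (commutator Q).index) := by
  classical
  set B := commutator Q with hB
  have hBab : ∀ a ∈ B, ∀ b ∈ B, a * b = b * a := fun a ha b hb =>
    (Subgroup.mem_centralizer_iff.1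
      (Subgroup.commutator_eq_bot_iff_le_centralizer.1 hab ha) b hb).symm
  set C := Subgroup.centralizer (B : Set Q) with hC
  haveI : C.Normal := Subgroup.normal_centralizer
  have hBC : B ≤ C := fun a ha => Subgroup.mem_centralizer_iff.2 fun b hb => hBab b hb a ha
  -- nilpotent normal subgroups are of prime power order
  have hprim : ∀ M : Subgroup Q, M.Normal → M ≠ ⊥ → Group.IsNilpotent M →
      ∃ p : ℕ, p.Prime ∧ IsPGroup p M := by
    intro M hM hMne hnil
    have hcard : Nat.card M ≠ 1 := fun h => hMne (Subgroup.card_eq_one.1 h)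
    obtain ⟨p, hp, hpd⟩ := Nat.exists_prime_and_dvd hcard
    refine ⟨p, hp, ?_⟩
    haveI := Fact.mk hp
    by_contra hnp
    rw [IsPGroup.iff_card] at hnp
    have hex : ∃ r : ℕ, r.Prime ∧ r ∣ Nat.card M ∧ r ≠ p := by
      by_contra! hcon
      exact hnp ⟨_, Nat.eq_prime_pow_of_unique_prime_dvd Nat.card_pos.ne'
        (fun {d} hd hdd => hcon d hd hdd)⟩
    obtain ⟨r, hr, hrd, hrp⟩ := hex
    haveI := Fact.mk hr
    have key : ∀ (t : ℕ) [Fact t.Prime], t ∣ Nat.card M → ∃ S : Subgroup Q,
        S.Normal ∧ S ≠ ⊥ ∧ IsPGroup t S := by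
      intro t ht htd
      let S : Sylow t M := default
      haveI : (S : Subgroup M).Normal := (Group.isNilpotent_of_finite_tfae.out 0 3 :
        Group.IsNilpotent M ↔ ∀ (p : ℕ) (_ : Fact p.Prime) (P : Sylow p M), (P : Subgroup M).Normal).1
          hnil t ht S
      haveI := S.characteristic_of_normal inferInstance
      haveI := hM
      refine ⟨(S : Subgroup M).map M.subtype, inferInstance, ?_, S.isPGroup'.map _⟩
      rw [Ne, Subgroup.map_eq_bot_iff_of_injective _ M.subtype_injective]
      exact S.ne_bot_of_dvd_card htd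
    obtain ⟨S, hSn, hS0, hSp⟩ := key p hpd
    obtain ⟨R, hRn, hR0, hRp⟩ := key r hrd
    refine hne (le_bot_iff.1 ?_)
    exact le_trans (le_inf (hmin S hSn hS0) (hmin R hRn hR0))
      (le_of_eq (IsPGroup.disjoint_of_ne p r hrp.symm S R hSp hRp).eq_bot)
  by_cases hCtop : C = ⊤
  · left
    haveI : Group.IsNilpotent Q := by
      haveI : Group.IsNilpotent (Q ⧸ B) :=
        @CommGroup.isNilpotent (Abelianization Q) _
      refine Subgroup.isNilpotent_of_ker_le_center (QuotientGroup.mk' B) ?_
      rw [QuotientGroup.ker_mk']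
      intro b hb
      refine Subgroup.mem_center_iff.2 fun g => ?_
      have : g ∈ C := hCtop ▸ Subgroup.mem_top g
      exact (Subgroup.mem_centralizer_iff.1 this b hb).symm
    have hQ0 : (⊤ : Subgroup Q) ≠ ⊥ := fun h => hne (le_bot_iff.1 (le_top.trans h.le))
    obtain ⟨p, hp, hpQ⟩ := hprim ⊤ inferInstance hQ0 inferInstance
    exact ⟨p, hp, hpQ.of_equiv Subgroup.topEquiv⟩
  right
  -- `B` is an `s`-group
  haveI : IsMulCommutative B := ⟨⟨fun a b => Subtype.ext (hBab a a.2 b b.2)⟩⟩
  haveI : Group.IsNilpotent B :=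
    letI : CommGroup B :=
      { (inferInstance : Group B) with mul_comm := fun a b => Subtype.ext (hBab a a.2 b b.2) }
    CommGroup.isNilpotent
  obtain ⟨s, hs, hBs⟩ := hprim B inferInstance hne this
  haveI := Fact.mk hs
  obtain ⟨x, hxC⟩ : ∃ x, x ∉ C := by
    by_contra! h
    exact hCtop ((Subgroup.eq_top_iff' C).2 h)
  -- fixed points outside `C`
  have hfpf : ∀ g : Q, g ∉ C → ∀ b ∈ B, g * b = b * g → b = 1 := by
    intro g hg b hb hgb
    have hn : (B ⊓ Subgroup.centralizer ({g} : Set Q)).Normal := by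
      refine ⟨fun c hc y => ?_⟩
      have hcB : y * c * y⁻¹ ∈ B := Subgroup.Normal.conj_mem inferInstance c hc.1 y
      refine ⟨hcB, Subgroup.mem_centralizer_singleton_iff.2 ?_⟩
      have hd : ⁅g, y⁆ ∈ B := Subgroup.commutator_mem_commutator (Subgroup.mem_top g)
        (Subgroup.mem_top y)
      have hgc : g * c = c * g := (Subgroup.mem_centralizer_singleton_iff.1 hc.2).symm
      have h1 := hBab _ hd _ hcB
      have h2 : g * (y * c * y⁻¹) * g⁻¹ = ⁅g, y⁆ * (y * c * y⁻¹) * ⁅g, y⁆⁻¹ := by
        calc g * (y * c * y⁻¹) * g⁻¹ = ⁅g, y⁆ * (y * (g * c * g⁻¹) * y⁻¹) * ⁅g, y⁆⁻¹ := by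
              rw [commutatorElement_def]; group
          _ = _ := by rw [hgc, mul_inv_cancel_right]
      rw [h1, mul_inv_cancel_right] at h2
      exact (mul_inv_eq_iff_eq_mul.1 h2).symm
    by_contra hb1
    have hne' : B ⊓ Subgroup.centralizer ({g} : Set Q) ≠ ⊥ := fun h => hb1 (Subgroup.mem_bot.1
      (h ▸ ⟨hb, Subgroup.mem_centralizer_singleton_iff.2 hgb.symm⟩))
    have hle := (hmin _ hn hne').trans inf_le_right
    exact hg (Subgroup.mem_centralizer_iff.2 fun c hc =>
      Subgroup.mem_centralizer_singleton_iff.1 (hle hc))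
  have hxB : x ∈ Subgroup.normalizer (B : Set Q) := by
    rw [Subgroup.normalizer_eq_top]; exact Subgroup.mem_top x
  -- every element of `C` is a product from `B` and `C_C(x)`
  have hdec : ∀ c ∈ C, ∃ b ∈ B, Commute x (b * c) := by
    intro c hc
    have hsurj : Function.Surjective fun b : B =>
        (⟨⁅x, (b : Q)⁆, Subgroup.commutator_mem_commutator (Subgroup.mem_top x)
          (Subgroup.mem_top _)⟩ : B) := by
      refine Finite.surjective_of_injective fun a b hab => ?_
      have h3 : x * (a : Q) * x⁻¹ * (a : Q)⁻¹ = x * (b : Q) * x⁻¹ * (b : Q)⁻¹ :=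
        congrArg Subtype.val hab
      have h4 : (x * (b : Q) * x⁻¹) * (x * ((b : Q)⁻¹ * a) * x⁻¹ * ((b : Q)⁻¹ * a)⁻¹) * (b : Q)⁻¹ =
          (x * (b : Q) * x⁻¹) * 1 * (b : Q)⁻¹ := by
        rw [mul_one, ← h3]; group
      have h5 := mul_left_cancel (mul_right_cancel h4)
      have h2 : x * ((b : Q)⁻¹ * a) = (b : Q)⁻¹ * a * x :=
        mul_inv_eq_iff_eq_mul.1 (mul_inv_eq_one.1 h5)
      have := hfpf x hxC _ (mul_mem (inv_mem b.2) a.2) h2
      exact Subtype.ext (inv_mul_eq_one.1 this).symm
    have hcx : ⁅x, c⁆ ∈ B := Subgroup.commutator_mem_commutator (Subgroup.mem_top x)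
      (Subgroup.mem_top c)
    obtain ⟨b, hb⟩ := hsurj ⟨_, inv_mem hcx⟩
    have hb' : x * (b : Q) * x⁻¹ * (b : Q)⁻¹ = (x * c * x⁻¹ * c⁻¹)⁻¹ := congrArg Subtype.val hb
    refine ⟨b, b.2, ?_⟩
    have hxc : x * c * x⁻¹ * c⁻¹ ∈ B := hcx
    have hcomm := hBab _ b.2 _ hxc
    have h3 : x * (b : Q) * x⁻¹ = (x * c * x⁻¹ * c⁻¹)⁻¹ * b := by rw [← hb']; group
    show x * ((b : Q) * c) = b * c * x
    calc x * ((b : Q) * c) = (x * b * x⁻¹) * (x * c * x⁻¹ * c⁻¹) * c * x := by group
      _ = (x * c * x⁻¹ * c⁻¹)⁻¹ * ((b : Q) * (x * c * x⁻¹ * c⁻¹)) * c * x := by rw [h3]; group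
      _ = _ := by rw [hcomm]; group
  -- `C` is abelian
  have hCab : ∀ c ∈ C, ∀ d ∈ C, c * d = d * c := by
    intro c hc d hd
    obtain ⟨a, ha, hac⟩ := hdec c hc
    obtain ⟨b, hb, hbd⟩ := hdec d hd
    have h1 : ∀ {e : Q}, e ∈ B → ∀ {y : Q}, y ∈ C → e * y = y * e := fun he _ hy =>
      Subgroup.mem_centralizer_iff.1 hy _ he
    have hk : ⁅a * c, b * d⁆ = 1 := by
      refine hfpf x hxC _ (Subgroup.commutator_mem_commutator (Subgroup.mem_top _)
        (Subgroup.mem_top _)) ?_
      rw [commutatorElement_def]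
      exact (((hac.mul_right hbd).mul_right hac.inv_right).mul_right hbd.inv_right).eq
    have h2 : Commute (a * c) (b * d) := commutatorElement_eq_one_iff_commute.1 hk
    have hca : Commute c a := (h1 ha hc).symm
    have hcb : Commute c b := (h1 hb hc).symm
    have hda : Commute d a := (h1 ha hd).symm
    have hdb : Commute d b := (h1 hb hd).symm
    have hab' : Commute a b := hBab a ha b hb
    have : c * d = d * c := by
      have h3 : (a * b) * (c * d) = (a * b) * (d * c) := by
        calc (a * b) * (c * d) = a * (b * c) * d := by group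
          _ = (a * c) * (b * d) := by rw [← hcb.eq]; group
          _ = (b * d) * (a * c) := h2.eq
          _ = b * (d * a) * c := by group
          _ = (b * a) * (d * c) := by rw [hda.eq]; group
          _ = _ := by rw [hab'.eq]
      exact mul_left_cancel h3
    exact this
  -- the fixed points of `x` on `C` are trivial
  have hCB : C ≤ B := by
    intro c hc
    obtain ⟨b, hb, hbc⟩ := hdec c hc
    have hn : (C ⊓ Subgroup.centralizer ({x} : Set Q)).Normal := by
      refine ⟨fun d hd y => ?_⟩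
      have hdC : y * d * y⁻¹ ∈ C := Subgroup.Normal.conj_mem inferInstance d hd.1 y
      refine ⟨hdC, Subgroup.mem_centralizer_singleton_iff.2 ?_⟩
      have hk : ⁅x, y⁆ ∈ C := hBC (Subgroup.commutator_mem_commutator (Subgroup.mem_top x)
        (Subgroup.mem_top y))
      have hxd : x * d = d * x := (Subgroup.mem_centralizer_singleton_iff.1 hd.2).symm
      have h1 := hCab _ hk _ hdC
      have h2 : x * (y * d * y⁻¹) * x⁻¹ = ⁅x, y⁆ * (y * d * y⁻¹) * ⁅x, y⁆⁻¹ := by
        calc x * (y * d * y⁻¹) * x⁻¹ = ⁅x, y⁆ * (y * (x * d * x⁻¹) * y⁻¹) * ⁅x, y⁆⁻¹ := by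
              rw [commutatorElement_def]; group
          _ = _ := by rw [hxd, mul_inv_cancel_right]
      rw [h1, mul_inv_cancel_right] at h2
      exact (mul_inv_eq_iff_eq_mul.1 h2).symm
    have hbot : C ⊓ Subgroup.centralizer ({x} : Set Q) = ⊥ := by
      by_contra hne'
      have hle := (hmin _ hn hne').trans inf_le_right
      refine hne (le_bot_iff.1 fun e he => Subgroup.mem_bot.2 ?_)
      exact hfpf x hxC e he (Subgroup.mem_centralizer_singleton_iff.1 (hle he)).symm
    have hbc1 : b * c = 1 := Subgroup.mem_bot.1 (hbot ▸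
      ⟨mul_mem (hBC hb) hc, Subgroup.mem_centralizer_singleton_iff.2 hbc.eq.symm⟩)
    rw [← mul_eq_one_iff_inv_eq.1 hbc1]
    exact inv_mem hb
  refine ⟨fun g hg => hfpf g fun h => hg (hCB h), ?_⟩
  obtain ⟨k, hk⟩ := IsPGroup.iff_card.1 hBs
  rw [hk]
  refine Nat.Coprime.pow_left k (hs.coprime_iff_not_dvd.2 fun hdvd => ?_)
  rw [Subgroup.index_eq_card] at hdvd
  obtain ⟨y, hy⟩ := exists_prime_orderOf_dvd_card' s hdvd
  obtain ⟨g, rfl⟩ := QuotientGroup.mk_surjective y
  have hgB : g ∉ B := fun h => hs.one_lt.ne' (by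
    rw [← hy, (QuotientGroup.eq_one_iff g).2 h, orderOf_one])
  -- the action of an element of order a power of `s`
  have hg' : g ^ s ∈ B := (QuotientGroup.eq_one_iff _).1 (by
    rw [QuotientGroup.mk_pow, ← hy, pow_orderOf_eq_one])
  obtain ⟨e, he⟩ := hBs ⟨g ^ s, hg'⟩
  have he' : (g ^ s) ^ s ^ e = 1 := congrArg Subtype.val he
  have hpg : IsPGroup s (Subgroup.zpowers g) := by
    obtain ⟨i, -, hi'⟩ := (Nat.dvd_prime_pow hs).1
      (orderOf_dvd_of_pow_eq_one (show g ^ s ^ (e + 1) = 1 by rw [pow_succ', pow_mul]; exact he'))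
    exact IsPGroup.of_card (n := i) (by rw [Nat.card_zpowers, hi'])
  letI : MulAction (Subgroup.zpowers g) B :=
    MulAction.compHom B ((MulAut.conjNormal (H := B)).comp (Subgroup.zpowers g).subtype)
  have hcardB : s ∣ Nat.card B := by
    rcases k with _ | k
    · exact absurd (Subgroup.card_eq_one.1 (by simpa using hk)) hne
    · rw [hk]; exact dvd_pow_self s k.succ_ne_zero
  have hmem1 : (1 : B) ∈ MulAction.fixedPoints (Subgroup.zpowers g) B := fun z => map_one (MulAut.conjNormal (z : Q))
  obtain ⟨b, hb, hb1⟩ := hpg.exists_fixed_point_of_prime_dvd_card_of_fixed_point B hcardB hmem1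
  refine hb1 (Subtype.ext (hfpf g (fun h => hgB (hCB h)) b b.2 ?_).symm)
  have h7 := congrArg Subtype.val (hb ⟨g, Subgroup.mem_zpowers g⟩)
  change g * (b : Q) * g⁻¹ = b at h7
  exact mul_inv_eq_iff_eq_mul.1 h7

/-- An element outside `K` fixes at most one twist, so some twist induces irreducibly. -/
theorem exists_degree_index_mul (K N : Subgroup G) [K.Normal] [N.Normal] (hNK : N ≤ K)
    (hK : ∀ a ∈ K, ∀ b ∈ K, ⁅a, b⁆ ∈ N)
    (hfpf : ∀ g : G, g ∉ K → ∀ k ∈ K, ⁅g, k⁆ ∈ N → k ∈ N) (hne : ¬ K ≤ N)
    [Fintype K] [Fintype (N.subgroupOf K)] (ψ : IrrCharacter K)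
    (hres : IsIrrCharacter (N.subgroupOf K) (resFun (N.subgroupOf K) ψ.1)) :
    ∃ χ : IrrCharacter G, degree χ = K.index * degree ψ := by
  classical
  set π := QuotientGroup.mk' (N.subgroupOf K) with hπ
  have hab : ∀ a b : K ⧸ N.subgroupOf K, a * b = b * a := by
    intro a b
    obtain ⟨a, rfl⟩ := QuotientGroup.mk_surjective a
    obtain ⟨b, rfl⟩ := QuotientGroup.mk_surjective b
    rw [← commutatorElement_eq_one_iff_mul_comm]
    show π a * π b * (π a)⁻¹ * (π b)⁻¹ = 1
    rw [← map_inv, ← map_inv, ← map_mul, ← map_mul, ← map_mul, hπ, QuotientGroup.mk'_apply,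
      QuotientGroup.eq_one_iff]
    exact hK _ a.2 _ b.2
  let tw : (K ⧸ N.subgroupOf K →* ℂ) → IrrCharacter K := fun l =>
    ⟨⇑(l.comp π) * ψ.1, IsIrrCharacter.mul_linear ψ.2 _⟩
  have htw : ∀ l (k : K), (tw l).1 k = l (π k) * ψ.1 k := fun _ _ => rfl
  have hinj : ∀ l l', tw l = tw l' → l = l' := fun l l' h => by
    have h1 : l.comp π = l'.comp π := mul_linear_injective (N.subgroupOf K) ψ hres
      (fun k hk => by rw [MonoidHom.comp_apply, hπ, QuotientGroup.mk'_apply,
        (QuotientGroup.eq_one_iff k).2 hk, map_one])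
      (fun k hk => by rw [MonoidHom.comp_apply, hπ, QuotientGroup.mk'_apply,
        (QuotientGroup.eq_one_iff k).2 hk, map_one])
      (fun k => by
        have := congrFun (congrArg Subtype.val h) k
        simpa [htw, mul_comm] using this)
    refine MonoidHom.ext fun q => ?_
    obtain ⟨k, rfl⟩ := QuotientGroup.mk_surjective q
    exact DFunLike.congr_fun h1 k
  -- an element outside `K` fixes at most one twist
  have hone : ∀ g : G, g ∉ K → ∀ l l', conjFun K (tw l).1 g = (tw l).1 →
      conjFun K (tw l').1 g = (tw l').1 → l = l' := by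
    intro g hg l l' hl hl'
    -- the commutator with `g` is onto
    let cg : K ⧸ N.subgroupOf K → K ⧸ N.subgroupOf K := Quotient.lift
      (fun k : K => π (MulAut.conjNormal g k * k⁻¹)) (by
        intro a b hab'
        have hab'' := QuotientGroup.leftRel_apply.1 hab'
        have h1 : π a = π b := by
          rw [hπ, QuotientGroup.mk'_apply, QuotientGroup.mk'_apply, QuotientGroup.eq]
          exact hab''
        have h2 : π (MulAut.conjNormal g a) = π (MulAut.conjNormal g b) := by
          rw [hπ, QuotientGroup.mk'_apply, QuotientGroup.mk'_apply, QuotientGroup.eq,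
            ← map_inv, ← map_mul, Subgroup.mem_subgroupOf, MulAut.conjNormal_apply]
          exact (inferInstance : N.Normal).conj_mem _ hab'' g
        show π _ = π _
        rw [map_mul, map_mul, map_inv, map_inv, h1, h2])
    have hcg : ∀ k : K, cg (π k) = π (MulAut.conjNormal g k * k⁻¹) := fun _ => rfl
    have hsurj : Function.Surjective cg := by
      refine Finite.surjective_of_injective fun a b h => ?_
      obtain ⟨a, rfl⟩ := QuotientGroup.mk'_surjective _ a
      obtain ⟨b, rfl⟩ := QuotientGroup.mk'_surjective _ b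
      rw [← hπ, hcg, hcg] at h
      have h3 : π (MulAut.conjNormal g (a * b⁻¹) * (a * b⁻¹)⁻¹) = 1 := by
        simp only [map_mul, map_inv, mul_inv_rev, inv_inv] at h ⊢
        rw [eq_mul_of_mul_inv_eq h]
        calc π (MulAut.conjNormal g b) * (π b)⁻¹ * π a * (π (MulAut.conjNormal g b))⁻¹ *
              (π b * (π a)⁻¹)
            = π (MulAut.conjNormal g b) * ((π b)⁻¹ * π a) * (π (MulAut.conjNormal g b))⁻¹ *
              (π b * (π a)⁻¹) := by group
          _ = 1 := by
              rw [hab (π (MulAut.conjNormal g b)) ((π b)⁻¹ * π a), mul_inv_cancel_right,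
                hab ((π b)⁻¹) (π a)]
              group
      have h4 : ((a * b⁻¹ : K) : G) ∈ N := by
        refine hfpf g hg _ (a * b⁻¹).2 ?_
        rw [hπ, QuotientGroup.mk'_apply, QuotientGroup.eq_one_iff, Subgroup.mem_subgroupOf] at h3
        simpa [commutatorElement_def, mul_assoc] using h3
      rw [← mul_inv_eq_one, ← map_inv, ← map_mul, QuotientGroup.mk'_apply, QuotientGroup.eq_one_iff]
      exact h4
    -- the quotient of the two twists is fixed
    have hfix : ∀ k : K, l' (π (MulAut.conjNormal g k)) * l (π k) =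
        l' (π k) * l (π (MulAut.conjNormal g k)) := by
      have h1 := mul_linear_injective (N.subgroupOf K)
        (⟨conjFun K ψ.1 g, isIrrCharacter_conjFun K ψ.2 g⟩ : IrrCharacter K)
        (a := ((l'.comp π).comp (MulAut.conjNormal g : MulAut K).toMonoidHom) * l.comp π)
        (b := l'.comp π * ((l.comp π).comp (MulAut.conjNormal g : MulAut K).toMonoidHom))
      refine fun k => DFunLike.congr_fun (h1 ?_ ?_ ?_ ?_) k
      · have hpre : ∀ n : N.subgroupOf K, MulAut.conjNormal g (n : K) ∈ N.subgroupOf K := fun n =>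
          Subgroup.mem_subgroupOf.2 (by
            rw [MulAut.conjNormal_apply]
            exact (inferInstance : N.Normal).conj_mem _ n.2 g)
        let c : N.subgroupOf K ≃* N.subgroupOf K :=
          MulEquiv.ofBijective
            (((MulAut.conjNormal g : MulAut K).toMonoidHom.comp
              (N.subgroupOf K).subtype).codRestrict _ hpre)
            (Finite.injective_iff_bijective.1 fun u v huv => Subtype.ext
              ((MulAut.conjNormal g : MulAut K).injective (congrArg Subtype.val huv)))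
        exact IsIrrCharacter.comp_surjective hres c.toMonoidHom c.surjective
      · intro n hn
        have hgn : MulAut.conjNormal g n ∈ N.subgroupOf K := Subgroup.mem_subgroupOf.2 (by
          rw [MulAut.conjNormal_apply]; exact (inferInstance : N.Normal).conj_mem _ hn g)
        simp [hπ, (QuotientGroup.eq_one_iff n).2 hn, (QuotientGroup.eq_one_iff _).2 hgn]
      · intro n hn
        have hgn : MulAut.conjNormal g n ∈ N.subgroupOf K := Subgroup.mem_subgroupOf.2 (by
          rw [MulAut.conjNormal_apply]; exact (inferInstance : N.Normal).conj_mem _ hn g)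
        simp [hπ, (QuotientGroup.eq_one_iff n).2 hn, (QuotientGroup.eq_one_iff _).2 hgn]
      · intro k'
        have e1 : l (π (MulAut.conjNormal g k')) * ψ.1 (MulAut.conjNormal g k') =
            l (π k') * ψ.1 k' := congrFun hl k'
        have e2 : l' (π (MulAut.conjNormal g k')) * ψ.1 (MulAut.conjNormal g k') =
            l' (π k') * ψ.1 k' := congrFun hl' k'
        simp only [MonoidHom.mul_apply, MonoidHom.comp_apply, MulEquiv.coe_toMonoidHom, conjFun]
        linear_combination (l (π k')) * e2 - (l' (π k')) * e1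
    refine MonoidHom.ext fun q => ?_
    obtain ⟨q, rfl⟩ := hsurj q
    obtain ⟨k, rfl⟩ := QuotientGroup.mk'_surjective _ q
    rw [← hπ, hcg, map_mul, map_inv, map_mul, map_mul]
    have hne0 : ∀ (f : K ⧸ N.subgroupOf K →* ℂ) x, f x ≠ 0 := fun f x =>
      ((Group.isUnit x).map f).ne_zero
    have hk1 : l (π k) * l ((π k)⁻¹) = 1 := by rw [← map_mul, mul_inv_cancel, map_one]
    have hk2 : l' (π k) * l' ((π k)⁻¹) = 1 := by rw [← map_mul, mul_inv_cancel, map_one]
    refine mul_left_cancel₀ (mul_ne_zero (hne0 l (π k)) (hne0 l' (π k))) ?_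
    calc l (π k) * l' (π k) * (l (π (MulAut.conjNormal g k)) * l ((π k)⁻¹))
        = l' (π k) * l (π (MulAut.conjNormal g k)) * (l (π k) * l ((π k)⁻¹)) := by ring
      _ = l' (π (MulAut.conjNormal g k)) * l (π k) * (l' (π k) * l' ((π k)⁻¹)) := by
          rw [hk1, hk2, hfix]
      _ = _ := by ring
  -- counting
  haveI : Finite (K ⧸ N.subgroupOf K →* ℂ) := Finite.of_injective
    (fun l => linIrr l) linIrr_injective
  haveI := Fintype.ofFinite (K ⧸ N.subgroupOf K →* ℂ)
  have hcardl : Nat.card (K ⧸ N.subgroupOf K →* ℂ) = Nat.card (K ⧸ N.subgroupOf K) := by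
    rw [card_monoidHom_complex]
    have : commutator (K ⧸ N.subgroupOf K) = ⊥ := by
      rw [commutator_def, Subgroup.commutator_eq_bot_iff_le_centralizer]
      exact fun a _ => Subgroup.mem_centralizer_iff.2 fun b _ => hab b a
    rw [this, Subgroup.index_bot]
  obtain ⟨k₀, hk₀, hk₀N⟩ := SetLike.not_le_iff_exists.1 hne
  have hcount : K.index < Nat.card (K ⧸ N.subgroupOf K) + 1 ∧
      ∀ q : G ⧸ K, q ≠ 1 → ∀ l l', conjFun K (tw l).1 q.out = (tw l).1 →
        conjFun K (tw l').1 q.out = (tw l').1 → l = l' := by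
    refine ⟨?_, fun q hq => hone q.out fun h => hq ?_⟩
    · rw [Nat.lt_succ_iff, Subgroup.index_eq_card]
      refine Nat.card_le_card_of_injective
        (fun q : G ⧸ K => π (MulAut.conjNormal q.out ⟨k₀, hk₀⟩)) fun a b h => ?_
      by_contra hab'
      have hg : a.out⁻¹ * b.out ∉ K := fun hc => hab' (by
        rw [← Quotient.out_eq a, ← Quotient.out_eq b]; exact QuotientGroup.eq.2 hc)
      refine hk₀N (hfpf _ hg k₀ hk₀ ?_)
      simp only [hπ, QuotientGroup.mk'_apply, QuotientGroup.eq, Subgroup.mem_subgroupOf,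
        Subgroup.coe_mul, Subgroup.coe_inv, MulAut.conjNormal_apply] at h
      have h2 := (inferInstance : N.Normal).conj_mem _ ((inferInstance : N.Normal).conj_mem _ h
        a.out⁻¹) k₀
      convert h2 using 1
      rw [commutatorElement_def]; group
    · rw [← Quotient.out_eq q]; exact (QuotientGroup.eq_one_iff _).2 h
  obtain ⟨l, hl⟩ : ∃ l, ∀ g : G, conjFun K (tw l).1 g = (tw l).1 → g ∈ K := by
    by_contra! hcon
    choose g hg hgK using hcon
    let F : (K ⧸ N.subgroupOf K →* ℂ) → {q : G ⧸ K // q ≠ 1} := fun l =>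
      ⟨(g l : G ⧸ K), fun h => hgK l ((QuotientGroup.eq_one_iff _).1 h)⟩
    have hF : Function.Injective F := by
      intro l l' h
      have h1 : (g l : G ⧸ K) = (g l' : G ⧸ K) := congrArg Subtype.val h
      have fixK : ∀ l'' (a b : G), (a : G ⧸ K) = (b : G ⧸ K) →
          conjFun K (tw l'').1 a = (tw l'').1 → conjFun K (tw l'').1 b = (tw l'').1 := by
        intro l'' a b hab' ha
        have hm : a⁻¹ * b ∈ inertia K (tw l'').1 :=
          le_inertia K (IsCharacter.isClassFunction (irr_isCharacter (tw l''))) (QuotientGroup.eq.1 hab')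
        have := (inertia K (tw l'').1).mul_mem (show a ∈ inertia K (tw l'').1 from ha) hm
        rwa [mul_inv_cancel_left] at this
      have hout : ((g l : G ⧸ K).out : G ⧸ K) = (g l : G ⧸ K) := Quotient.out_eq _
      refine hcount.2 (g l : G ⧸ K) (F l).2 l l' (fixK l _ _ hout.symm (hg l)) ?_
      exact fixK l' _ _ (h1.symm.trans hout.symm) (hg l')
    have h2 := Nat.card_le_card_of_injective F hF
    rw [hcardl] at h2
    haveI := Fintype.ofFinite (G ⧸ K)
    have h3 : Nat.card {q : G ⧸ K // q ≠ 1} + 1 = K.index := by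
      rw [Subgroup.index_eq_card, Nat.card_eq_fintype_card, Nat.card_eq_fintype_card,
        Fintype.card_subtype_compl, Fintype.card_subtype_eq,
        Nat.sub_add_cancel Fintype.card_pos]
    omega
  refine ⟨⟨indFun K (tw l).1, isIrrCharacter_indFun_inertia K K le_rfl (tw l) hl (ψ := tw l)
    (e := 1) one_ne_zero fun k => by rw [Nat.cast_one, one_mul]⟩, degree_eq_of_apply_one ?_⟩
  show indFun K (tw l).1 1 = _
  rw [indFun_apply_one, htw, map_one, map_one, one_mul, apply_one_eq_degree, Nat.cast_mul]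

end Cfsg.Agent.ThreeDegrees
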