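import Cfsg.Agent.Lib.Char.Linear
import Cfsg.Agent.Lib.Char.Descend
import Cfsg.Agent.Lib.Char.KernelSum
import Cfsg.Agent.Lib.Char.TwoDegrees

/-!
# No group with a perfect minimal normal derived subgroup has degrees `1, m, n` with `(m, n) = 1`

The products of two characters of degree `m < n` are analysed against the regular character.
-/

set_option autoImplicit false
set_option linter.unusedSectionVars false
set_option linter.style.haveILetI false

namespace Cfsg.Agent.ThreeDegrees

open Cfsg.Agent Cfsg.Agent.Char
open scoped ComplexConjugate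

universe u

variable {G : Type u} [Group G]

/-- A character trivial on the derived subgroup is linear. -/
theorem degree_eq_one_of_trivOn_commutator [Finite G] {χ : IrrCharacter G}
    (h : TrivOn (commutator G) χ.1) : degree χ = 1 := by
  haveI := Fintype.ofFinite G
  obtain ⟨ψ, hψ⟩ := exists_descend (commutator G) χ h
  have hab : ∀ a b : G ⧸ commutator G, a * b = b * a :=
    fun (a b : Abelianization G) => mul_comm a b
  refine degree_eq_of_apply_one ?_
  rw [← hψ 1, QuotientGroup.mk_one, apply_one_of_comm hab ψ, Nat.cast_one]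

theorem trivOn_commutator_of_degree [Finite G] {χ : IrrCharacter G} (h : degree χ = 1) :
    TrivOn (commutator G) χ.1 := by
  obtain ⟨f, hf⟩ := IsCharacter.exists_monoidHom (irr_isCharacter χ)
    (by rw [apply_one_eq_degree, h, Nat.cast_one])
  intro g hg
  have hle : commutator G ≤ f.toHomUnits.ker := Abelianization.commutator_subset_ker _
  have h1 := congrArg Units.val (MonoidHom.mem_ker.1 (hle hg))
  rw [← hf, map_one]
  simpa using h1

variable [Fintype G]

theorem classInner_mul_eq (f g h : G → ℂ) :
    classInner (f * g) h = classInner g ((fun x => conj (f x)) * h) := by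
  simp only [classInner, Pi.mul_apply, map_mul, Complex.conj_conj]
  congr 1
  exact Finset.sum_congr rfl fun x _ => by ring

/-- The complex conjugate character. -/
noncomputable def bar (χ : IrrCharacter G) : IrrCharacter G :=
  ⟨fun x => conj (χ.1 x), IsIrrCharacter.conj_fun χ.2⟩

@[simp] theorem bar_apply (χ : IrrCharacter G) (x : G) : (bar χ).1 x = conj (χ.1 x) := rfl

theorem degree_bar (χ : IrrCharacter G) : degree (bar χ) = degree χ :=
  degree_eq_of_apply_one (by rw [bar_apply, apply_one_eq_degree, map_natCast])

theorem classInner_mul_bar (χ : IrrCharacter G) (g h : G → ℂ) :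
    classInner (χ.1 * g) h = classInner g ((bar χ).1 * h) := classInner_mul_eq _ _ _

/-- Multiplicity of `η` in `χ ψ`. -/
noncomputable def prodMult (χ ψ η : IrrCharacter G) : ℕ :=
  (IsCharacter.exists_nat_classInner (IsCharacter.mul (irr_isCharacter χ) (irr_isCharacter ψ))
    (irr_isCharacter η)).choose

theorem classInner_prod (χ ψ η : IrrCharacter G) :
    classInner (χ.1 * ψ.1) η.1 = prodMult χ ψ η :=
  (IsCharacter.exists_nat_classInner (IsCharacter.mul (irr_isCharacter χ) (irr_isCharacter ψ))
    (irr_isCharacter η)).choose_spec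

/-- The degree of a product. -/
theorem sum_prodMult_mul_degree (χ ψ : IrrCharacter G) :
    ∑ η, prodMult χ ψ η * degree η = degree χ * degree ψ := by
  obtain ⟨c, hc, hc'⟩ :=
    IsCharacter.exists_decomp (IsCharacter.mul (irr_isCharacter χ) (irr_isCharacter ψ))
  have hcm : ∀ η, c η = prodMult χ ψ η := fun η => by
    exact_mod_cast (hc' η).symm.trans (classInner_prod χ ψ η)
  have h := congrFun hc 1
  simp only [Pi.mul_apply, Finset.sum_apply, Pi.smul_apply, smul_eq_mul, apply_one_eq_degree,
    hcm] at h
  exact_mod_cast h.symm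

theorem prodMult_symm (χ ψ η : IrrCharacter G) : prodMult χ ψ η = prodMult (bar χ) η ψ := by
  have h := classInner_mul_bar χ ψ.1 η.1
  rw [classInner_prod] at h
  rw [← conj_classInner, classInner_prod, map_natCast] at h
  exact_mod_cast h

/-- Linear times irreducible is irreducible. -/
theorem prodMult_linear {χ ψ η : IrrCharacter G} (hψ : degree ψ = 1)
    (h : degree χ ≠ degree η) : prodMult χ ψ η = 0 := by
  obtain ⟨f, hf⟩ := IsCharacter.exists_monoidHom (irr_isCharacter ψ)
    (by rw [apply_one_eq_degree, hψ, Nat.cast_one])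
  let μ : IrrCharacter G := ⟨⇑f * χ.1, IsIrrCharacter.mul_linear χ.2 f⟩
  have hne : μ ≠ η := fun e => h (by
    rw [← e]
    refine (degree_eq_of_apply_one ?_).symm
    show f 1 * χ.1 1 = _
    rw [map_one, one_mul, apply_one_eq_degree])
  have h1 := classInner_prod χ ψ η
  rw [mul_comm χ.1, ← hf, show ⇑f * χ.1 = μ.1 from rfl, classInner_eq_zero_of_ne hne] at h1
  exact_mod_cast h1.symm

/-- A function supported at `1` of sum zero vanishes at `1`. -/
theorem apply_one_eq_zero_of_sum {K : Subgroup G} [Fintype K] (f : K → ℂ)
    (h : ∀ g : K, f g ≠ 0 → g = 1) (hs : ∑ g : K, f g = 0) : f 1 = 0 := by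
  rw [Finset.sum_eq_single (1 : K) (fun g _ hg => by_contra fun h0 => hg (h g h0))
    (fun h1 => absurd (Finset.mem_univ _) h1)] at hs
  exact hs

open scoped Classical in
/-- The sum of the linear characters. -/
theorem sum_linear_mul (f : G → ℂ) [Fintype (commutator G)] :
    ∑ l ∈ Finset.univ.filter (fun l : IrrCharacter G => degree l = 1), ∑ x, l.1 x * f x =
      ((commutator G).index : ℂ) * ∑ x : commutator G, f x := by
  set L := Finset.univ.filter (fun l : IrrCharacter G => degree l = 1)
  have hLeq : L = Finset.univ.filter (fun l : IrrCharacter G => TrivOn (commutator G) l.1) :=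
    Finset.filter_congr fun l _ =>
      ⟨trivOn_commutator_of_degree, degree_eq_one_of_trivOn_commutator⟩
  have hcard : (L.card : ℂ) = ((commutator G).index : ℂ) := by
    have h := sum_trivOn_degree_sq (commutator G)
    rw [← hLeq] at h
    rw [← h, Finset.sum_congr rfl fun l hl => show charDegree l.1 ^ 2 = 1 by
      rw [charDegree_eq_degree, (Finset.mem_filter.1 hl).2, one_pow], Finset.sum_const,
      smul_eq_mul, mul_one]
  rw [Finset.sum_comm, Finset.mul_sum,
    ← Finset.sum_filter_add_sum_filter_not Finset.univ (fun x => x ∈ commutator G)]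
  have h0 : ∀ x ∉ commutator G, ∑ l ∈ L, l.1 x = 0 := by
    intro x hx
    have h := sum_trivOn_mul_conj (commutator G) x 1
    rw [← hLeq] at h
    have he : IsEmpty {k : commutator G // IsConj (x * k) 1} := ⟨fun k => hx (by
      have h1 : x * (k.1 : G) = 1 := isConj_one_left.1 k.2
      rw [eq_inv_of_mul_eq_one_left h1]
      exact inv_mem k.1.2)⟩
    rw [@Nat.card_of_isEmpty _ he, Nat.cast_zero, mul_zero, mul_eq_zero] at h
    rw [← h.resolve_left (card_ne_zero (G := commutator G))]
    exact Finset.sum_congr rfl fun l hl => by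
      rw [apply_one_eq_degree, (Finset.mem_filter.1 hl).2, Nat.cast_one, map_one, mul_one]
  rw [Finset.sum_eq_zero (s := Finset.univ.filter fun x => ¬ x ∈ commutator G) fun x hx => by
      rw [← Finset.sum_mul, h0 x (Finset.mem_filter.1 hx).2, zero_mul], add_zero,
    Finset.sum_subtype (p := fun x => x ∈ commutator G) _ (by simp)]
  refine Finset.sum_congr rfl fun x _ => ?_
  rw [← Finset.sum_mul]
  congr 1
  rw [← hcard, Finset.sum_congr rfl fun (l : IrrCharacter G) hl => show l.1 (x : G) = (1 : ℂ) by
    rw [trivOn_commutator_of_degree (Finset.mem_filter.1 hl).2 _ x.2, apply_one_eq_degree,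
      (Finset.mem_filter.1 hl).2, Nat.cast_one], Finset.sum_const, nsmul_eq_mul, mul_one]

/-- Degrees `1, m, n` with `m < n` coprime are impossible if the derived subgroup is a perfect
minimal normal subgroup; only its minimality is used. -/
theorem false_of_minimal_commutator {m n : ℕ} (hm : 1 < m) (hmn : m < n) (hco : m.Coprime n)
    (hcd : ∀ χ : IrrCharacter G, degree χ = 1 ∨ degree χ = m ∨ degree χ = n)
    (hexm : ∃ χ : IrrCharacter G, degree χ = m) (hexn : ∃ χ : IrrCharacter G, degree χ = n)
    (hmin : ∀ E : Subgroup G, E.Normal → E ≤ commutator G → E = ⊥ ∨ E = commutator G) :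
    False := by
  classical
  haveI := Fintype.ofFinite (commutator G)
  set D := commutator G
  have hn1 : 1 < n := by omega
  -- nonlinear characters are faithful on `D`
  have hker : ∀ η : IrrCharacter G, degree η ≠ 1 → ∀ g ∈ D, η.1 g = η.1 1 → g = 1 := by
    intro η hη g hg hg1
    haveI := CharInt.charKernel_normal (irr_isCharacter η)
    rcases hmin (CharInt.charKernel (irr_isCharacter η) ⊓ D) inferInstance inf_le_right with h | h
    · exact Subgroup.mem_bot.1 (h ▸ ⟨(CharInt.mem_charKernel _).2 hg1, hg⟩)
    · exact absurd (degree_eq_one_of_trivOn_commutator fun k hk =>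
        (CharInt.mem_charKernel _).1 ((inf_eq_right.1 h) hk)) hη
  have hsum0 : ∀ η : IrrCharacter G, degree η ≠ 1 → ∑ g : D, η.1 g = 0 := fun η hη => by
    simpa using sum_coset_eq_zero_of_not_trivOn D η
      (fun h => hη (degree_eq_one_of_trivOn_commutator h)) 1
  -- the coefficient of `φ` in `χ` times the regular character
  have hreg : ∀ χ φ : IrrCharacter G,
      ∑ ψ, degree ψ * prodMult χ ψ φ = degree χ * degree φ := fun χ φ => by
    have h1 : classInner (χ.1 * fun g => ∑ ψ : IrrCharacter G, ψ.1 1 * ψ.1 g) φ.1 =
        (degree χ : ℂ) * degree φ := by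
      rw [classInner]
      simp only [Pi.mul_apply, sum_irr_degree_mul]
      simp only [mul_ite, ite_mul, mul_zero, zero_mul,
        Finset.sum_ite_eq', Finset.mem_univ, if_true, apply_one_eq_degree, map_natCast]
      field_simp [card_ne_zero (G := G)]
    rw [show (χ.1 * fun g => ∑ ψ : IrrCharacter G, ψ.1 1 * ψ.1 g) =
        ∑ ψ : IrrCharacter G, (degree ψ : ℂ) • (χ.1 * ψ.1) from funext fun g => by
      simp only [Pi.mul_apply, Finset.mul_sum, Finset.sum_apply, Pi.smul_apply, smul_eq_mul,
        apply_one_eq_degree]
      exact Finset.sum_congr rfl fun ψ _ => by ring, classInner_sum_left] at h1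
    simp only [classInner_smul_left, classInner_prod] at h1
    exact_mod_cast h1
  by_cases hA : ∃ χ ψ φ : IrrCharacter G, degree χ = m ∧ degree ψ = m ∧ degree φ = n ∧
      prodMult χ ψ φ ≠ 0
  · obtain ⟨χ, ψ₀, φ, hχ, hψ₀, hφ, hne⟩ := hA
    set L := Finset.univ.filter (fun l : IrrCharacter G => degree l = 1) with hL
    set M := Finset.univ.filter (fun l : IrrCharacter G => degree l = m) with hM
    -- `χ̄ φ` has constituents of degree `m` only
    have hbar : ∀ η : IrrCharacter G, degree η = n → prodMult (bar χ) φ η = 0 := by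
      intro η hη
      have htot := sum_prodMult_mul_degree (bar χ) φ
      rw [degree_bar, hχ, hφ, ← Finset.sum_filter_add_sum_filter_not Finset.univ
        (fun l : IrrCharacter G => degree l = m),
        Finset.sum_congr rfl fun l hl => by rw [(Finset.mem_filter.1 hl).2], ← Finset.sum_mul,
        ← hM] at htot
      set A := ∑ l ∈ M, prodMult (bar χ) φ l
      have hrest : ∀ l ∈ Finset.univ.filter (fun l : IrrCharacter G => ¬ degree l = m),
          prodMult (bar χ) φ l * degree l = prodMult (bar χ) φ l * n := by
        intro l hl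
        rcases hcd l with h | h | h
        · rw [prodMult_symm, prodMult_linear h]
          · rw [zero_mul, zero_mul]
          · rw [degree_bar, degree_bar, hχ, hφ]; exact hmn.ne
        · exact absurd h (Finset.mem_filter.1 hl).2
        · rw [h]
      rw [Finset.sum_congr rfl hrest, ← Finset.sum_mul] at htot
      set B := ∑ l ∈ Finset.univ.filter (fun l : IrrCharacter G => ¬ degree l = m),
        prodMult (bar χ) φ l
      have hA0 : A ≠ 0 := fun h0 => hne (by
        rw [prodMult_symm]
        exact Finset.sum_eq_zero_iff.1 h0 ψ₀ (Finset.mem_filter.2 ⟨Finset.mem_univ _, hψ₀⟩))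
      have hdvd : n ∣ A := by
        refine hco.symm.dvd_of_dvd_mul_right ?_
        exact (Nat.dvd_add_left (Dvd.intro_left B rfl)).1 (htot ▸ Dvd.intro_left m rfl)
      have hA1 : n ≤ A := Nat.le_of_dvd (Nat.pos_of_ne_zero hA0) hdvd
      have hB : B * n = 0 := by nlinarith
      refine Finset.sum_eq_zero_iff.1 ((Nat.mul_eq_zero.1 hB).resolve_right (by omega)) η
        (Finset.mem_filter.2 ⟨Finset.mem_univ _, by rw [hη]; exact hmn.ne'⟩)
    -- the total multiplicity of `φ` in the products `χ ψ`
    have hn' : ∑ ψ ∈ M, prodMult χ ψ φ = n := by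
      have h := hreg χ φ
      rw [hχ, hφ, ← Finset.sum_filter_add_sum_filter_not Finset.univ
        (fun l : IrrCharacter G => degree l = m),
        Finset.sum_congr rfl fun l hl => by rw [(Finset.mem_filter.1 hl).2], ← Finset.mul_sum,
        ← hM] at h
      rw [Finset.sum_eq_zero (s := Finset.univ.filter fun l : IrrCharacter G => ¬ degree l = m)
        fun l hl => ?_, add_zero] at h
      · exact Nat.eq_of_mul_eq_mul_left (by omega) h
      · rcases hcd l with h' | h' | h'
        · rw [prodMult_linear h' (by rw [hχ, hφ]; exact hmn.ne), mul_zero]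
        · exact absurd h' (Finset.mem_filter.1 hl).2
        · rw [prodMult_symm, hbar l h', mul_zero]
    -- translates of `χ̄` by linear characters
    set c : ℂ := (Nat.card G : ℂ)⁻¹ * (D.index : ℂ) with hc
    have hS : ∀ ψ : IrrCharacter G, degree ψ = m → prodMult χ ψ φ ≠ 0 →
        ∑ l ∈ L, classInner (l.1 * (bar χ).1) ψ.1 =
          c * ∑ g : D, χ.1 g * conj (χ.1 g) := by
      intro ψ hψ hψne
      -- `ψ` is a translate
      obtain ⟨l₀, hl₀, hl₀'⟩ : ∃ l ∈ L, prodMult χ ψ l ≠ 0 := by
        by_contra! hcon
        have htot := sum_prodMult_mul_degree χ ψ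
        rw [hχ, hψ, ← Finset.sum_filter_add_sum_filter_not Finset.univ
          (fun l : IrrCharacter G => degree l = m),
          Finset.sum_congr rfl fun l hl => by rw [(Finset.mem_filter.1 hl).2], ← Finset.sum_mul,
          ← hM] at htot
        have hrest : ∀ l ∈ Finset.univ.filter (fun l : IrrCharacter G => ¬ degree l = m),
            prodMult χ ψ l * degree l = prodMult χ ψ l * n := by
          intro l hl
          rcases hcd l with h | h | h
          · rw [hcon l (Finset.mem_filter.2 ⟨Finset.mem_univ _, h⟩), zero_mul, zero_mul]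
          · exact absurd h (Finset.mem_filter.1 hl).2
          · rw [h]
        rw [Finset.sum_congr rfl hrest, ← Finset.sum_mul] at htot
        set B := ∑ l ∈ Finset.univ.filter (fun l : IrrCharacter G => ¬ degree l = m),
          prodMult χ ψ l
        have hdvd : m ∣ B := hco.dvd_of_dvd_mul_right
          ((Nat.dvd_add_right (Dvd.intro_left _ rfl)).1 (htot ▸ Dvd.intro m rfl))
        have hB0 : B ≠ 0 := fun h0 => hψne (Finset.sum_eq_zero_iff.1 h0 φ
          (Finset.mem_filter.2 ⟨Finset.mem_univ _, by rw [hφ]; exact hmn.ne'⟩))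
        have hB1 : m ≤ B := Nat.le_of_dvd (Nat.pos_of_ne_zero hB0) hdvd
        exact absurd ((Nat.le_add_left _ _).trans htot.le) (not_le.2 ((Nat.mul_lt_mul_of_pos_left hmn (by omega : 0 < m)).trans_le (Nat.mul_le_mul_right n hB1)))
      have hl1 : degree l₀ = 1 := (Finset.mem_filter.1 hl₀).2
      rw [prodMult_symm] at hl₀'
      obtain ⟨f, hf⟩ := IsCharacter.exists_monoidHom (irr_isCharacter l₀)
        (by rw [apply_one_eq_degree, hl1, Nat.cast_one])
      let μ : IrrCharacter G := ⟨⇑f * (bar χ).1, IsIrrCharacter.mul_linear (bar χ).2 f⟩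
      have hμ : μ = ψ := by_contra fun hne' => hl₀' (by
        have h1 := classInner_prod (bar χ) l₀ ψ
        rw [mul_comm, ← hf, show ⇑f * (bar χ).1 = μ.1 from rfl,
          classInner_eq_zero_of_ne hne'] at h1
        exact_mod_cast h1.symm)
      simp only [classInner, Pi.mul_apply, mul_assoc]
      rw [← Finset.mul_sum, sum_linear_mul, hc, mul_assoc]
      congr 2
      refine Finset.sum_congr rfl fun g _ => ?_
      rw [← hμ]
      show (bar χ).1 g * conj (f g * (bar χ).1 g) = _
      have hfg : f (g : G) = 1 := by
        have := trivOn_commutator_of_degree hl1 g g.2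
        rwa [← hf, map_one] at this
      rw [hfg, one_mul, bar_apply, Complex.conj_conj, mul_comm]
    -- `|χ|²` is concentrated on the kernel of `φ`
    have hkey : ∑ g : D, χ.1 g * conj (χ.1 g) * conj (φ.1 g) =
        n * ∑ g : D, χ.1 g * conj (χ.1 g) := by
      have h1 : ∑ l ∈ L, classInner (χ.1 * (l.1 * (bar χ).1)) φ.1 =
          c * ∑ g : D, χ.1 g * conj (χ.1 g) * conj (φ.1 g) := by
        simp only [classInner, Pi.mul_apply, bar_apply]
        rw [← Finset.mul_sum, hc, mul_assoc]
        congr 1
        rw [← sum_linear_mul (fun g => χ.1 g * conj (χ.1 g) * conj (φ.1 g))]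
        exact Finset.sum_congr rfl fun l _ => Finset.sum_congr rfl fun g _ => by ring
      have h2 : ∑ l ∈ L, classInner (χ.1 * (l.1 * (bar χ).1)) φ.1 =
          c * (n * ∑ g : D, χ.1 g * conj (χ.1 g)) := by
        have hexp : ∀ l ∈ L, classInner (χ.1 * (l.1 * (bar χ).1)) φ.1 =
            ∑ ψ ∈ M, classInner (l.1 * (bar χ).1) ψ.1 * (prodMult χ ψ φ : ℂ) := by
          intro l hl
          obtain ⟨f, hf⟩ := IsCharacter.exists_monoidHom (irr_isCharacter l)
            (by rw [apply_one_eq_degree, (Finset.mem_filter.1 hl).2, Nat.cast_one])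
          let μ : IrrCharacter G := ⟨⇑f * (bar χ).1, IsIrrCharacter.mul_linear (bar χ).2 f⟩
          have hμm : μ ∈ M := Finset.mem_filter.2 ⟨Finset.mem_univ _, degree_eq_of_apply_one (by
            show f 1 * (bar χ).1 1 = _
            rw [map_one, one_mul, apply_one_eq_degree, degree_bar, hχ])⟩
          rw [← hf, show ⇑f * (bar χ).1 = μ.1 from rfl, Finset.sum_eq_single μ
            (fun ψ _ hne' => by rw [classInner_eq_zero_of_ne hne'.symm, zero_mul])
            (fun h' => absurd hμm h'), classInner_irr_self μ.2, one_mul, classInner_prod]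
        rw [Finset.sum_congr rfl hexp, Finset.sum_comm]
        have hterm : ∀ ψ ∈ M, ∑ l ∈ L, classInner (l.1 * (bar χ).1) ψ.1 * (prodMult χ ψ φ : ℂ) =
            (prodMult χ ψ φ : ℂ) * (c * ∑ g : D, χ.1 g * conj (χ.1 g)) := by
          intro ψ hψ
          by_cases h0 : prodMult χ ψ φ = 0
          · simp [h0]
          · rw [← Finset.sum_mul, hS ψ (Finset.mem_filter.1 hψ).2 h0, mul_comm]
        rw [Finset.sum_congr rfl hterm, ← Finset.sum_mul, ← Nat.cast_sum, hn']
        ring
      refine mul_left_cancel₀ ?_ (h1.symm.trans h2)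
      exact mul_ne_zero (inv_ne_zero (card_ne_zero (G := G)))
        (Nat.cast_ne_zero.2 Subgroup.index_ne_zero_of_finite)
    have hterm : ∀ g : D, χ.1 (g : G) ≠ 0 → g = 1 := by
      have hre : ∑ g : D, Complex.normSq (χ.1 g) * ((n : ℝ) - (φ.1 g).re) = 0 := by
        have h1 := congrArg Complex.re hkey
        simp only [Complex.mul_conj, Complex.re_sum, Complex.mul_re, Complex.ofReal_re,
          Complex.ofReal_im, Complex.natCast_re, Complex.natCast_im, Complex.conj_re,
          zero_mul, sub_zero] at h1
        simp only [mul_sub, Finset.sum_sub_distrib, ← Finset.sum_mul]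
        rw [h1]; ring
      have hle : ∀ g : D, (φ.1 g).re ≤ n := fun g => by
        refine (Complex.re_le_norm _).trans ((CharInt.norm_char_le (irr_isCharacter φ) _).trans_eq ?_)
        rw [apply_one_eq_degree, hφ, Complex.norm_natCast]
      intro g hg
      have h0 := (Finset.sum_eq_zero_iff_of_nonneg fun g _ =>
        mul_nonneg (Complex.normSq_nonneg _) (sub_nonneg.2 (hle g))).1 hre g (Finset.mem_univ _)
      have hre' : (φ.1 g).re = n := by
        rcases mul_eq_zero.1 h0 with h | h
        · exact absurd (Complex.normSq_eq_zero.1 h) hg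
        · linarith
      refine Subtype.ext (hker φ (by rw [hφ]; omega) g g.2 ?_)
      rw [apply_one_eq_degree, hφ]
      have hnorm := CharInt.norm_char_le (irr_isCharacter φ) (g : G)
      rw [apply_one_eq_degree, hφ, Complex.norm_natCast] at hnorm
      have hsq := Complex.sq_norm (φ.1 g)
      rw [Complex.normSq_apply, hre'] at hsq
      refine Complex.ext (by rw [hre', Complex.natCast_re]) ?_
      rw [Complex.natCast_im]
      nlinarith [norm_nonneg (φ.1 (g : G))]
    have h1 := apply_one_eq_zero_of_sum (fun g : D => χ.1 g) hterm (hsum0 χ (by rw [hχ]; omega))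
    exact IsIrrCharacter.apply_one_ne_zero χ.2 h1
  · push Not at hA
    obtain ⟨χ, hχ⟩ := hexm
    obtain ⟨φ₀, hφ₀⟩ := hexn
    set N := Finset.univ.filter (fun l : IrrCharacter G => degree l = n) with hN
    set v : G → ℂ := ∑ φ ∈ N, φ.1 with hv
    have hchi : χ.1 * v = (m : ℂ) • v := by
      refine classFun_ext
        (IsCharacter.isClassFunction (IsCharacter.mul (irr_isCharacter χ)
          (IsCharacter.sum N fun φ _ => irr_isCharacter φ)))
        (IsCharacter.isClassFunction (IsCharacter.natCast_smul
          (IsCharacter.sum N fun φ _ => irr_isCharacter φ) m)) fun η => ?_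
      rw [classInner_smul_left, hv, classInner_sum_left, Finset.mul_sum, classInner_sum_left]
      simp only [classInner_prod]
      rcases hcd η with h | h | h
      · rw [Finset.sum_eq_zero (s := N) (f := fun φ => classInner φ.1 η.1) fun φ hφ =>
          classInner_eq_zero_of_ne fun e => by
            rw [e] at hφ; exact hn1.ne (h.symm.trans (Finset.mem_filter.1 hφ).2), mul_zero]
        refine Finset.sum_eq_zero fun φ hφ => ?_
        rw [prodMult_symm, prodMult_linear h (by
          rw [degree_bar, hχ, (Finset.mem_filter.1 hφ).2]; exact hmn.ne), Nat.cast_zero]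
      · rw [Finset.sum_eq_zero (s := N) (f := fun φ => classInner φ.1 η.1) fun φ hφ =>
          classInner_eq_zero_of_ne fun e => by
            rw [e] at hφ; exact hmn.ne (h.symm.trans (Finset.mem_filter.1 hφ).2), mul_zero]
        refine Finset.sum_eq_zero fun φ hφ => ?_
        rw [prodMult_symm, hA _ η φ (by rw [degree_bar, hχ]) h (Finset.mem_filter.1 hφ).2,
          Nat.cast_zero]
      · have hηN : η ∈ N := Finset.mem_filter.2 ⟨Finset.mem_univ _, h⟩
        rw [Finset.sum_eq_single η (f := fun φ : IrrCharacter G => classInner φ.1 η.1)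
          (fun φ _ hne => classInner_eq_zero_of_ne hne) (fun h' => absurd hηN h'),
          classInner_irr_self η.2, mul_one, ← Nat.cast_sum, Nat.cast_inj]
        have hr := hreg χ η
        rw [hχ, h, ← Finset.sum_filter_add_sum_filter_not Finset.univ
          (fun l : IrrCharacter G => degree l = n),
          Finset.sum_congr rfl fun l hl => by rw [(Finset.mem_filter.1 hl).2], ← Finset.mul_sum,
          Finset.sum_eq_zero (s := Finset.univ.filter fun l : IrrCharacter G => ¬ degree l = n)
          fun l hl => ?_, add_zero, mul_comm] at hr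
        · exact Nat.eq_of_mul_eq_mul_right (by omega) hr
        · rcases hcd l with h' | h' | h'
          · rw [prodMult_linear h' (by rw [hχ, h]; exact hmn.ne), mul_zero]
          · rw [hA χ l η hχ h' h, mul_zero]
          · exact absurd h' (Finset.mem_filter.1 hl).2
    have hterm : ∀ g : D, v (g : G) ≠ 0 → g = 1 := fun g hg => by
      refine Subtype.ext (hker χ (by rw [hχ]; omega) g g.2 ?_)
      rw [apply_one_eq_degree, hχ]
      exact mul_right_cancel₀ hg (congrFun hchi g)
    have hs : ∑ g : D, v g = 0 := by
      simp only [hv, Finset.sum_apply]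
      rw [Finset.sum_comm]
      exact Finset.sum_eq_zero fun φ hφ => hsum0 φ (by rw [(Finset.mem_filter.1 hφ).2]; omega)
    have h1 := apply_one_eq_zero_of_sum (fun g : D => v g) hterm hs
    rw [hv, Finset.sum_apply, Finset.sum_congr rfl fun φ hφ => by
      rw [Subgroup.coe_one, apply_one_eq_degree, (Finset.mem_filter.1 hφ).2], Finset.sum_const,
      nsmul_eq_mul, mul_eq_zero, Nat.cast_eq_zero, Nat.cast_eq_zero, Finset.card_eq_zero] at h1
    rcases h1 with h1 | h1
    · exact (Finset.eq_empty_iff_forall_notMem.1 h1) φ₀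
        (Finset.mem_filter.2 ⟨Finset.mem_univ _, hφ₀⟩)
    · omega

end Cfsg.Agent.ThreeDegrees
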