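import Cfsg.Agent.Lib.Char.Monomial
import Cfsg.Agent.Lib.Char.CoprimeRational
import Cfsg.Agent.Lib.ThreeDegrees.Coprime

/-!
# Characters monomial over a normal subgroup with `p`-group quotient

If `G / N` is a `p`-group and `χ` lies over a linear character of `N` then `χ` is induced from a
linear character of a subgroup containing `N`, and Taketa's kernel step follows.
-/

set_option autoImplicit false
set_option linter.unusedSectionVars false
set_option linter.style.haveILetI false

namespace Cfsg.Agent.ThreeDegrees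

open Cfsg.Agent Cfsg.Agent.Char
open scoped ComplexConjugate

universe u

variable {G : Type u} [Group G] [Fintype G]

/-- A character over a linear character of `N`, with `G / N` a `p`-group, is monomial from a
subgroup containing `N`. -/
theorem exists_monomial_over {p : ℕ} [Fact p.Prime] (N : Subgroup G) [N.Normal] [Fintype N]
    (hN : IsPGroup p (G ⧸ N)) (χ : IrrCharacter G) (θ : IrrCharacter N)
    (hθ1 : degree θ = 1) (hθ : classInner (resFun N χ.1) θ.1 ≠ 0) :
    ∃ (H : Subgroup G) (μ : H →* ℂ), N ≤ H ∧ χ.1 = indFun H μ := by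
  classical
  obtain ⟨hle, ψ, e, he, hres, hind⟩ := exists_indFun_inertia N χ θ hθ
  let I := inertiaGroup N θ.1
  haveI : Fintype I := Fintype.ofFinite _
  obtain ⟨f, hf⟩ := IsCharacter.exists_monoidHom (irr_isCharacter θ)
    (by rw [apply_one_eq_degree, hθ1, Nat.cast_one])
  have hθf : ∀ n, θ.1 n = f n := fun n => (congrFun hf n).symm
  obtain ⟨d, ρ, hρ, hρψ⟩ := ψ.2
  haveI := hρ
  have hde : (d : ℂ) = e := by
    have h1 := hres 1
    rw [← hρψ, hθf, map_one, mul_one] at h1
    rw [← h1, show (⟨((1 : N) : G), hle (1 : N).2⟩ : I) = 1 from rfl, Representation.char_one,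
      Module.finrank_fin_fun]
  let lam : N.subgroupOf I →* ℂ := f.comp (Subgroup.subgroupOfEquivOfLe hle).toMonoidHom
  have hscal : ∀ a : N.subgroupOf I, ρ a = lam a • (1 : Module.End ℂ (Fin d → ℂ)) := fun a => by
    refine apply_eq_smul_of_character_eq ρ (N.subgroupOf I) lam (fun b => ?_) a
    rw [hde, hρψ]
    refine Eq.trans ?_ (show (e : ℂ) * θ.1 (Subgroup.subgroupOfEquivOfLe hle b) = _ by
      rw [hθf]; rfl)
    exact hres (Subgroup.subgroupOfEquivOfLe hle b)
  set q := QuotientGroup.mk' ρ.ker with hq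
  -- the quotient is nilpotent
  have hZ : ((N.subgroupOf I).map q) ≤ Subgroup.center (I ⧸ ρ.ker) := by
    rintro _ ⟨a, ha, rfl⟩
    refine Subgroup.mem_center_iff.2 fun y => ?_
    obtain ⟨x, rfl⟩ := QuotientGroup.mk'_surjective _ y
    rw [← map_mul, ← map_mul, hq, QuotientGroup.mk'_apply, QuotientGroup.mk'_apply, QuotientGroup.eq]
    refine MonoidHom.mem_ker.2 ?_
    have hc : ρ x * ρ a = ρ a * ρ x := by
      rw [hscal ⟨a, ha⟩, mul_smul_comm, smul_mul_assoc, mul_one, one_mul]
    rw [map_mul, map_mul ρ a x, ← hc, ← map_mul, ← map_mul, inv_mul_cancel, map_one]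
  haveI : Group.IsNilpotent (I ⧸ ρ.ker) := by
    haveI : ((N.subgroupOf I).map q).Normal :=
      (inferInstance : (N.subgroupOf I).Normal).map q (QuotientGroup.mk'_surjective _)
    have h1 : IsPGroup p (I ⧸ N.subgroupOf I) := by
      refine hN.of_injective (QuotientGroup.lift (N.subgroupOf I)
        ((QuotientGroup.mk' N).comp I.subtype) fun a ha => ?_) ?_
      · rw [MonoidHom.mem_ker, MonoidHom.comp_apply, QuotientGroup.mk'_apply,
          QuotientGroup.eq_one_iff]
        exact ha
      · rw [← MonoidHom.ker_eq_bot_iff, eq_bot_iff]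
        intro y hy
        obtain ⟨x, rfl⟩ := QuotientGroup.mk_surjective y
        rw [MonoidHom.mem_ker, QuotientGroup.lift_mk', MonoidHom.comp_apply,
          QuotientGroup.mk'_apply, QuotientGroup.eq_one_iff] at hy
        rw [Subgroup.mem_bot, QuotientGroup.eq_one_iff]
        exact hy
    haveI : Group.IsNilpotent ((I ⧸ ρ.ker) ⧸ (N.subgroupOf I).map q) :=
      (h1.of_surjective (QuotientGroup.lift (N.subgroupOf I)
      ((QuotientGroup.mk' ((N.subgroupOf I).map q)).comp q) fun a ha => by
        rw [MonoidHom.mem_ker, MonoidHom.comp_apply, QuotientGroup.mk'_apply,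
          QuotientGroup.eq_one_iff]
        exact Subgroup.mem_map_of_mem q ha) fun y => by
        obtain ⟨z, rfl⟩ := QuotientGroup.mk_surjective y
        obtain ⟨x, rfl⟩ := QuotientGroup.mk'_surjective _ z
        exact ⟨(x : I ⧸ N.subgroupOf I), rfl⟩).isNilpotent
    exact Subgroup.isNilpotent_of_ker_le_center (QuotientGroup.mk' ((N.subgroupOf I).map q))
      (by rw [QuotientGroup.ker_mk']; exact hZ)
  haveI := Fintype.ofFinite (I ⧸ ρ.ker)
  let σ : Representation ℂ (I ⧸ ρ.ker) (Fin d → ℂ) := QuotientGroup.lift ρ.ker ρ fun _ h => h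
  have hσ : σ.IsIrreducible :=
    CharInt.irreducible_of_comp_surjective (ρ := ρ) q (QuotientGroup.mk'_surjective _) σ rfl
  obtain ⟨S, μ, hS⟩ := isMonomialChar_of_isNilpotent (G := I ⧸ ρ.ker)
    (χ := σ.character) ⟨d, σ, hσ, rfl⟩
  -- `S` contains the image of `N`
  have hNS : N.subgroupOf I ≤ S.comap q := by
    intro a ha
    by_contra hna
    have h0 : σ.character (q a) = 0 := by
      rw [hS]
      refine indFun_eq_zero_of_forall_notMem S _ fun y => ?_
      have hcen := Subgroup.mem_center_iff.1 (hZ (Subgroup.mem_map_of_mem q ha)) y⁻¹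
      rw [hcen, inv_mul_cancel_right]
      exact hna
    have h1 : σ.character (q a) = ψ.1 a := by rw [← hρψ]; rfl
    rw [h1, show ψ.1 a = e * f (Subgroup.subgroupOfEquivOfLe hle ⟨a, ha⟩) by
      rw [← hθf]; exact hres ⟨(a : G), ha⟩] at h0
    refine mul_ne_zero (Nat.cast_ne_zero.2 he) ?_ h0
    exact ((Group.isUnit _).map f).ne_zero
  have hψeq : ψ.1 = indFun (S.comap q) (fun x => μ ⟨q x, x.2⟩) := funext fun x => by
    rw [indFun_comp_surjective q (QuotientGroup.mk'_surjective _) S μ x, ← congrFun hS (q x),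
      ← hρψ]
    rfl
  refine ⟨(S.comap q).map I.subtype,
    (μ.comp ((q.comp (S.comap q).subtype).codRestrict S fun x => x.2)).comp
      ((S.comap q).equivMapOfInjective _ I.subtype_injective).symm.toMonoidHom, ?_, ?_⟩
  · intro a ha
    exact ⟨⟨a, hle ha⟩, hNS (show (⟨a, hle ha⟩ : I) ∈ N.subgroupOf I from ha), rfl⟩
  · rw [← hind, hψeq, indFun_indFun]
    rfl

/-- Taketa's step: if all characters trivial on `N` of degree smaller than that of `χ` are trivial
on `D`, then `⁅D, D⁆` is in the kernel of `χ`. -/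
theorem trivOn_commutator_of_monomial (N D : Subgroup G) [N.Normal] [D.Normal] (χ : IrrCharacter G)
    (hχ : degree χ ≠ 1) (H : Subgroup G) (μ : H →* ℂ) (hNH : N ≤ H)
    (hχH : χ.1 = indFun H μ)
    (hD : ∀ η : IrrCharacter G, TrivOn N η.1 → degree η < degree χ → TrivOn D η.1) :
    TrivOn ⁅D, D⁆ χ.1 := by
  classical
  haveI := Fintype.ofFinite H
  have hidx : degree χ = H.index := degree_eq_of_apply_one (by
    rw [hχH, indFun_apply_one, map_one, mul_one])
  set F := indFun H (fun _ => (1 : ℂ)) with hF
  have hFc : IsCharacter G F := isCharacter_indFun H isCharacter_one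
  obtain ⟨c, hc, hc'⟩ := IsCharacter.exists_decomp hFc
  have hF1 : F 1 = (H.index : ℂ) := by rw [hF, indFun_apply_one, mul_one]
  have hFmem : ∀ x ∈ N, F x = F 1 := fun x hx => by
    rw [hF1, hF, indFun]
    rw [Finset.sum_congr rfl fun y _ => extendByZero_of_mem H _
      (hNH ((by simpa using (inferInstance : N.Normal).conj_mem x hx y⁻¹) : y⁻¹ * x * y ∈ N)),
      Finset.sum_const, Finset.card_univ, nsmul_eq_mul, mul_one, ← Nat.card_eq_fintype_card,
      ← H.card_mul_index, Nat.cast_mul, inv_mul_cancel_left₀ (card_ne_zero (G := H))]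
  have hval : ∀ x, F x = ∑ η ∈ Finset.univ.filter (fun η => c η ≠ 0), (c η : ℂ) * η.1 x := by
    intro x
    rw [Finset.sum_filter]
    refine (congrFun hc x).trans ?_
    simp only [Finset.sum_apply, Pi.smul_apply, smul_eq_mul]
    exact Finset.sum_congr rfl fun η _ => by split_ifs with h <;> simp_all
  have hcN : ∀ η, c η ≠ 0 → TrivOn N η.1 := fun η hη x hx => by
    have h1 := eq_of_sum_eq (Finset.univ.filter fun η => c η ≠ 0) (fun η => (c η : ℂ) • η.1)
      (fun η _ => IsCharacter.natCast_smul (irr_isCharacter η) _) (g := x)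
      (by simp only [Pi.smul_apply, smul_eq_mul, ← hval]; exact hFmem x hx) η
      (Finset.mem_filter.2 ⟨Finset.mem_univ _, hη⟩)
    simpa [Nat.cast_ne_zero.2 hη] using h1
  have hc1 : c (trivialChar G) = 1 := by
    have := hc' (trivialChar G)
    rw [hF, classInner_indFun H _ (IsCharacter.isClassFunction (irr_isCharacter _))] at this
    rw [show classInner (fun _ : H => (1 : ℂ)) (fun t : H => (trivialChar G).1 t) = 1 from
      classInner_irr_self (trivialChar H).2] at this
    exact_mod_cast this.symm
  have hdeg : ∑ η, c η * degree η = H.index := by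
    have := congrFun hc 1
    rw [hF1] at this
    simp only [Finset.sum_apply, Pi.smul_apply, smul_eq_mul, apply_one_eq_degree] at this
    exact_mod_cast this.symm
  have hcD : ∀ η, c η ≠ 0 → TrivOn D η.1 := fun η hη => by
    by_cases ht : η = trivialChar G
    · subst ht; intro k _; rfl
    refine hD η (hcN η hη) ?_
    have h2 : c (trivialChar G) * degree (trivialChar G) + c η * degree η ≤ H.index := by
      rw [← hdeg]
      exact Finset.add_le_sum (f := fun η => c η * degree η) (fun _ _ => Nat.zero_le _)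
        (Finset.mem_univ _) (Finset.mem_univ _) (Ne.symm ht)
    have h3 : degree η ≤ c η * degree η := Nat.le_mul_of_pos_left _ (Nat.pos_of_ne_zero hη)
    have h4 : 0 < degree (trivialChar G) := degree_pos _
    rw [hc1, one_mul] at h2
    omega
  have hDH : D ≤ H := fun x hx => by
    by_contra hxH
    have h1 : F x = F 1 := by
      rw [hval, hval]
      exact Finset.sum_congr rfl fun η hη => by rw [hcD η (Finset.mem_filter.1 hη).2 x hx]
    rw [hF1, hF, indFun, inv_mul_eq_iff_eq_mul₀ (card_ne_zero (G := H)), ← Nat.cast_mul,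
      H.card_mul_index] at h1
    have h2 : ∑ y : G, (extendByZero H (fun _ => (1 : ℂ)) (y⁻¹ * x * y)).re = (Nat.card G : ℝ) := by
      rw [← Complex.re_sum, h1, Complex.natCast_re]
    have h3 : ∑ y : G, (extendByZero H (fun _ => (1 : ℂ)) (y⁻¹ * x * y)).re < ∑ _y : G, (1 : ℝ) := by
      refine Finset.sum_lt_sum (fun y _ => ?_) ⟨1, Finset.mem_univ _, ?_⟩
      · by_cases hy : y⁻¹ * x * y ∈ H
        · rw [extendByZero_of_mem H _ hy, Complex.one_re]
        · rw [extendByZero_of_notMem H _ hy, Complex.zero_re]; exact zero_le_one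
      · rw [inv_one, one_mul, mul_one, extendByZero_of_notMem H _ hxH, Complex.zero_re]
        exact zero_lt_one
    rw [h2, Finset.sum_const, Finset.card_univ, nsmul_eq_mul, mul_one,
      ← Nat.card_eq_fintype_card] at h3
    exact lt_irrefl _ h3
  intro x hx
  have hker : ⁅D, D⁆ ≤ (μ.toHomUnits.ker).map H.subtype := by
    have h1 : commutator H ≤ μ.toHomUnits.ker := Abelianization.commutator_subset_ker _
    refine le_trans ?_ (Subgroup.map_mono h1)
    rw [Subgroup.map_subtype_commutator]
    exact Subgroup.commutator_mono hDH hDH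
  rw [hχH, indFun_apply_one, map_one, mul_one, indFun]
  rw [Finset.sum_congr rfl fun y _ => show extendByZero H μ (y⁻¹ * x * y) = 1 by
    obtain ⟨z, hz, hz'⟩ := hker ((by simpa using (Subgroup.commutator_normal D D).conj_mem x hx y⁻¹) :
      y⁻¹ * x * y ∈ ⁅D, D⁆)
    have h5 := congrArg Units.val (MonoidHom.mem_ker.1 hz)
    rw [← hz', Subgroup.coe_subtype, extendByZero_coe]
    simpa using h5,
    Finset.sum_const, Finset.card_univ, nsmul_eq_mul, mul_one, ← Nat.card_eq_fintype_card,
    ← H.card_mul_index, Nat.cast_mul, inv_mul_cancel_left₀ (card_ne_zero (G := H))]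

end Cfsg.Agent.ThreeDegrees
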